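import Cfsg.Agent.H890.A7.Block

/-!
# `3.A₇` : the relations in `M₃(R)` (helper890)
-/

set_option autoImplicit false
set_option linter.unusedSectionVars false

namespace Cfsg.Agent.H890.A7

open Matrix

section gen

variable {F : Type*} [Field F] {R : Type*} [Ring R] [Algebra F R] {ω : F}

/-- `diag(x, y, z)` -/
def dg (x y z : R) : Matrix (Fin 3) (Fin 3) R :=
  Matrix.of fun i j => if i = j then (if i = 0 then x else if i = 1 then y else z) else 0

/-- `(ω^(-ij)) x` -/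
def gm (ω : F) (x : R) : Matrix (Fin 3) (Fin 3) R := Matrix.of fun i j => ω ^ (2 * (i : ℕ) * (j : ℕ)) • x

theorem omega_cube (hω : ω ^ 2 + ω + 1 = 0) : ω ^ 3 = 1 := by linear_combination (ω - 1) * hω

theorem omega_ne (hω : ω ^ 2 + ω + 1 = 0) (h3 : (3 : F) ≠ 0) : ω ≠ 1 := by
  rintro rfl
  apply h3
  linear_combination hω

theorem omega_ne_zero (hω : ω ^ 2 + ω + 1 = 0) : ω ≠ 0 := by
  rintro rfl
  norm_num at hω

theorem fin3 (i : Fin 3) : i = 0 ∨ i = 1 ∨ i = 2 := by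
  have := i.2
  rcases (by omega : (i : ℕ) = 0 ∨ (i : ℕ) = 1 ∨ (i : ℕ) = 2) with h | h | h
  · exact Or.inl (Fin.ext h)
  · exact Or.inr (Or.inl (Fin.ext h))
  · exact Or.inr (Or.inr (Fin.ext h))

theorem ext3 {A B : Matrix (Fin 3) (Fin 3) R} (h00 : A 0 0 = B 0 0) (h01 : A 0 1 = B 0 1) (h02 : A 0 2 = B 0 2)
    (h10 : A 1 0 = B 1 0) (h11 : A 1 1 = B 1 1) (h12 : A 1 2 = B 1 2) (h20 : A 2 0 = B 2 0) (h21 : A 2 1 = B 2 1)
    (h22 : A 2 2 = B 2 2) : A = B := by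
  ext i j
  rcases fin3 i with rfl | rfl | rfl <;> rcases fin3 j with rfl | rfl | rfl <;> assumption

theorem diag_of_comm (hω : ω ^ 2 + ω + 1 = 0) (h3 : (3 : F) ≠ 0) {k : Matrix (Fin 3) (Fin 3) R}
    (h : k * a3 ω = a3 ω * k) : k = dg (k 0 0) (k 1 1) (k 2 2) := by
  have h1 : ∀ i j : Fin 3, i ≠ j → k i j = 0 := by
    intro i j hij
    have h2 := congrFun (congrFun h i) j
    rw [mul_a3, a3_mul, ← sub_eq_zero, ← sub_smul] at h2
    refine (smul_eq_zero.1 h2).resolve_left fun h4 => ?_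
    have hne := omega_ne hω h3
    have hne0 := omega_ne_zero hω
    have hi : (i : ℕ) = 0 ∨ (i : ℕ) = 1 ∨ (i : ℕ) = 2 := by omega
    have hj : (j : ℕ) = 0 ∨ (j : ℕ) = 1 ∨ (j : ℕ) = 2 := by omega
    have hij' : (i : ℕ) ≠ j := fun h => hij (Fin.ext h)
    rcases hi with hi | hi | hi <;> rcases hj with hj | hj | hj <;> rw [hi, hj] at h4 hij' <;>
      first
      | exact hij' rfl
      | (apply hne; linear_combination h4)
      | (apply hne; linear_combination -h4)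
      | (apply hne; linear_combination (ω - 1) * hω - ω * h4)
      | (apply hne; linear_combination (ω - 1) * hω + ω * h4)
      | (apply hne; have : ω * (ω - 1) = 0 := by linear_combination h4
         exact sub_eq_zero.1 ((mul_eq_zero.1 this).resolve_left hne0))
      | (apply hne; have : ω * (ω - 1) = 0 := by linear_combination -h4
         exact sub_eq_zero.1 ((mul_eq_zero.1 this).resolve_left hne0))
  apply ext3 <;> first | rfl | (rw [h1 _ _ (by decide)]; rfl)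

theorem gm_of (hω : ω ^ 2 + ω + 1 = 0) {g : Matrix (Fin 3) (Fin 3) R}
    (h : g * a3 ω = b3 * g) (h' : a3 ω * (g * b3) = g) : g = gm ω (g 0 0) := by
  have h1 : ∀ i j : Fin 3, g i j = ω ^ (j : ℕ) • g (i + 1) j := by
    intro i j
    have h2 := congrFun (congrFun h (i + 1)) j
    rw [mul_a3, b3_mul] at h2
    exact h2.symm
  have h2 : ∀ i j : Fin 3, g i j = ω ^ (i : ℕ) • g i (j + 1) := by
    intro i j
    have h2 := congrFun (congrFun h' i) j
    rw [a3_mul, mul_b3] at h2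
    exact h2.symm
  have e02 : g 0 2 = g 0 0 := by rw [h2 0 2]; simp
  have e01 : g 0 1 = g 0 0 := by rw [h2 0 1, show (1 : Fin 3) + 1 = 2 from rfl, e02]; simp
  have hω3 := omega_cube hω
  have e2 : ∀ j, g 2 j = ω ^ (j : ℕ) • g 0 j := fun j => h1 2 j
  have e1 : ∀ j, g 1 j = ω ^ (2 * (j : ℕ)) • g 0 j := by
    intro j
    rw [h1 1 j, show (1 : Fin 3) + 1 = 2 from rfl, e2, smul_smul, two_mul, pow_add]
  apply ext3
  · simp [gm]
  · rw [e01]; simp [gm]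
  · rw [e02]; simp [gm]
  · rw [e1]; simp [gm]
  · rw [e1, e01]; simp [gm]
  · rw [e1, e02]; simp [gm]
  · rw [e2]; simp [gm]
  · rw [e2, e01]
    show ω ^ 1 • g 0 0 = ω ^ (2 * 2 * 1) • g 0 0
    rw [show ω ^ (2 * 2 * 1) = ω ^ 3 * ω by ring, hω3]
    simp
  · rw [e2, e02]
    show ω ^ 2 • g 0 0 = ω ^ (2 * 2 * 2) • g 0 0
    rw [show ω ^ (2 * 2 * 2) = (ω ^ 3) ^ 2 * ω ^ 2 by ring, hω3]
    simp

/-- entries of `gm` with all exponents reduced -/
theorem gm_entries (hω : ω ^ 2 + ω + 1 = 0) (x : R) :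
    gm ω x 0 0 = x ∧ gm ω x 0 1 = x ∧ gm ω x 0 2 = x ∧ gm ω x 1 0 = x ∧ gm ω x 1 1 = ω ^ 2 • x ∧ gm ω x 1 2 = ω • x ∧
      gm ω x 2 0 = x ∧ gm ω x 2 1 = ω • x ∧ gm ω x 2 2 = ω ^ 2 • x := by
  have hω3 := omega_cube hω
  refine ⟨by simp [gm], by simp [gm], by simp [gm], by simp [gm], by simp [gm], ?_, by simp [gm], ?_, ?_⟩
  · show ω ^ (2 * 1 * 2) • x = _
    rw [show ω ^ (2 * 1 * 2) = ω ^ 3 * ω by ring, hω3, one_mul]
  · show ω ^ (2 * 2 * 1) • x = _
    rw [show ω ^ (2 * 2 * 1) = ω ^ 3 * ω by ring, hω3, one_mul]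
  · show ω ^ (2 * 2 * 2) • x = _
    rw [show ω ^ (2 * 2 * 2) = (ω ^ 3) ^ 2 * ω ^ 2 by ring, hω3, one_pow, one_mul]

/-- `x ⊗ (i ↦ -i)` -/
def rm (x : R) : Matrix (Fin 3) (Fin 3) R := Matrix.of fun i j => if i + j = 0 then x else 0

theorem gm_mul_gm (hω : ω ^ 2 + ω + 1 = 0) (x y : R) : gm ω x * gm ω y = rm ((3 : F) • (x * y)) := by
  obtain ⟨a00, a01, a02, a10, a11, a12, a20, a21, a22⟩ := gm_entries hω x
  obtain ⟨b00, b01, b02, b10, b11, b12, b20, b21, b22⟩ := gm_entries hω y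
  have h1 : (ω ^ 2 * ω ^ 2 + ω * ω + 1 : F) = 0 := by linear_combination (ω ^ 2 - ω + 1) * hω
  have h2 : (1 + ω ^ 2 * ω + ω * ω ^ 2 : F) = 3 := by linear_combination (2 * (ω - 1)) * hω
  apply ext3 <;> rw [mul3] <;>
    simp only [a00, a01, a02, a10, a11, a12, a20, a21, a22, b00, b01, b02, b10, b11, b12, b20, b21, b22,
      smul_mul_assoc, mul_smul_comm, smul_smul] <;>
    simp only [rm, Matrix.of_apply]
  · rw [if_pos (by decide)]; module
  · rw [if_neg (by decide)]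
    calc _ = (ω ^ 2 + ω + 1) • (x * y) := by module
      _ = 0 := by rw [hω, zero_smul]
  · rw [if_neg (by decide)]
    calc _ = (ω ^ 2 + ω + 1) • (x * y) := by module
      _ = 0 := by rw [hω, zero_smul]
  · rw [if_neg (by decide)]
    calc _ = (ω ^ 2 + ω + 1) • (x * y) := by module
      _ = 0 := by rw [hω, zero_smul]
  · rw [if_neg (by decide)]
    calc _ = (ω ^ 2 * ω ^ 2 + ω * ω + 1) • (x * y) := by module
      _ = 0 := by rw [h1, zero_smul]
  · rw [if_pos (by decide), ← h2]; module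
  · rw [if_neg (by decide)]
    calc _ = (ω ^ 2 + ω + 1) • (x * y) := by module
      _ = 0 := by rw [hω, zero_smul]
  · rw [if_pos (by decide), ← h2]; module
  · rw [if_neg (by decide)]
    calc _ = (ω ^ 2 * ω ^ 2 + ω * ω + 1) • (x * y) := by module
      _ = 0 := by rw [h1, zero_smul]

theorem rm_entries (x : R) : rm x 0 0 = x ∧ rm x 0 1 = 0 ∧ rm x 0 2 = 0 ∧ rm x 1 0 = 0 ∧ rm x 1 1 = 0 ∧ rm x 1 2 = x ∧
    rm x 2 0 = 0 ∧ rm x 2 1 = x ∧ rm x 2 2 = 0 := by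
  refine ⟨?_, ?_, ?_, ?_, ?_, ?_, ?_, ?_, ?_⟩ <;> simp only [rm, Matrix.of_apply] <;>
    first | exact if_pos (by decide) | exact if_neg (by decide)

theorem dg_entries (x y z : R) : dg x y z 0 0 = x ∧ dg x y z 0 1 = 0 ∧ dg x y z 0 2 = 0 ∧ dg x y z 1 0 = 0 ∧
    dg x y z 1 1 = y ∧ dg x y z 1 2 = 0 ∧ dg x y z 2 0 = 0 ∧ dg x y z 2 1 = 0 ∧ dg x y z 2 2 = z := by
  refine ⟨rfl, rfl, rfl, rfl, rfl, rfl, rfl, rfl, rfl⟩

/-- First consequences. -/
theorem stage_one (hω : ω ^ 2 + ω + 1 = 0) (h3 : (3 : F) ≠ 0) {k g : Matrix (Fin 3) (Fin 3) R}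
    (ka : k * a3 ω = a3 ω * k) (ga : g * a3 ω = b3 * g) (gb : a3 ω * (g * b3) = g) (k2 : k * k = 1)
    (g4 : (g * g) * (g * g) = 1) (sk : (g * g) * k = k * (g * g)) (v4 : k * b3 * k * b3 = b3 * (b3 * k)) :
    ∃ x d₀ d₁ d₂ t : R, k = dg d₀ d₁ d₂ ∧ g = gm ω x ∧ t = (3 : F) • (x * x) ∧ g * g = rm t ∧ t * t = 1 ∧
      t * d₀ = d₀ * t ∧ t * d₂ = d₁ * t ∧ t * d₁ = d₂ * t ∧ d₀ * d₀ = 1 ∧ d₁ * d₁ = 1 ∧ d₂ * d₂ = 1 ∧
      d₂ * d₁ = d₀ ∧ d₀ * d₂ = d₁ ∧ d₁ * d₀ = d₂ := by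
  obtain ⟨x, hx⟩ : ∃ x, x = g 0 0 := ⟨_, rfl⟩
  obtain ⟨d₀, hd₀⟩ : ∃ x, x = k 0 0 := ⟨_, rfl⟩
  obtain ⟨d₁, hd₁⟩ : ∃ x, x = k 1 1 := ⟨_, rfl⟩
  obtain ⟨d₂, hd₂⟩ : ∃ x, x = k 2 2 := ⟨_, rfl⟩
  have hk := diag_of_comm hω h3 ka
  have hg := gm_of hω ga gb
  rw [← hd₀, ← hd₁, ← hd₂] at hk
  rw [← hx] at hg
  have hgg : g * g = rm ((3 : F) • (x * x)) := by
    rw [hg, gm_mul_gm hω]
  obtain ⟨t, ht⟩ : ∃ t, t = (3 : F) • (x * x) := ⟨_, rfl⟩
  rw [← ht] at hgg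
  obtain ⟨r00, r01, r02, r10, r11, r12, r20, r21, r22⟩ := rm_entries t
  obtain ⟨k00, k01, k02, k10, k11, k12, k20, k21, k22⟩ := dg_entries d₀ d₁ d₂
  rw [hgg, hk] at sk
  rw [hgg] at g4
  rw [hk] at k2 v4
  have s1 := congrFun (congrFun g4 0) 0
  rw [mul3, r00, r01, r02, zero_mul, zero_mul, add_zero, add_zero, Matrix.one_apply_eq] at s1
  have s2 := congrFun (congrFun sk 0) 0
  rw [mul3, mul3, r00, r01, r02, k00, k01, k02, r10, r20] at s2
  simp only [zero_mul, mul_zero, add_zero] at s2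
  have s3 := congrFun (congrFun sk 1) 2
  rw [mul3, mul3, r10, r11, r12, k02, k12, k22, k10, k11, r02, r22] at s3
  simp only [mul_zero, add_zero, zero_add] at s3
  have s4 := congrFun (congrFun sk 2) 1
  rw [mul3, mul3, r20, r21, r22, k01, k11, k21, k20, k22, r01, r11] at s4
  simp only [mul_zero, add_zero, zero_add] at s4
  have q0 := congrFun (congrFun k2 0) 0
  rw [mul3, k00, k01, k02, Matrix.one_apply_eq] at q0
  simp only [zero_mul, add_zero] at q0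
  have q1 := congrFun (congrFun k2 1) 1
  rw [mul3, k10, k11, k12, Matrix.one_apply_eq] at q1
  simp only [zero_mul, add_zero, zero_add] at q1
  have q2 := congrFun (congrFun k2 2) 2
  rw [mul3, k20, k21, k22, Matrix.one_apply_eq] at q2
  simp only [zero_mul, add_zero, zero_add] at q2
  have key : ∀ j : Fin 3, dg d₀ d₁ d₂ (j + 2) (j + 2) * dg d₀ d₁ d₂ (j + 1) (j + 1) = dg d₀ d₁ d₂ j j := by
    intro j
    have h1 := congrFun (congrFun v4 (j + 1 + 1)) j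
    rw [b3_mul, b3_mul, mul_b3] at h1
    rw [← h1]
    have h2 : ∀ i l : Fin 3, (dg d₀ d₁ d₂ * b3 * dg d₀ d₁ d₂ : Matrix (Fin 3) (Fin 3) R) i l =
        dg d₀ d₁ d₂ i i * (if i = l + 1 then 1 else 0) * dg d₀ d₁ d₂ l l := by
      intro i l
      rw [Matrix.mul_apply, Finset.sum_eq_single l]
      · rw [Matrix.mul_apply, Finset.sum_eq_single i]
        · rfl
        · intro b _ h
          rw [show dg d₀ d₁ d₂ i b = 0 from if_neg (Ne.symm h), zero_mul]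
        · intro h; exact absurd (Finset.mem_univ _) h
      · intro b _ h
        rw [show dg d₀ d₁ d₂ b l = 0 from if_neg h, mul_zero]
      · intro h; exact absurd (Finset.mem_univ _) h
    rw [h2, if_pos rfl, mul_one]
    rcases fin3 j with rfl | rfl | rfl <;> rfl
  refine ⟨x, d₀, d₁, d₂, t, hk, hg, ht, hgg, s1, s2, s3, s4, q0, q1, q2, key 0, ?_, ?_⟩
  · exact key 1
  · exact key 2

/-- `p` on the diagonal, `q` elsewhere -/
def Km (p q : R) : Matrix (Fin 3) (Fin 3) R := Matrix.of fun i j => if i = j then p else q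

theorem Km_entries (p q : R) : Km p q 0 0 = p ∧ Km p q 0 1 = q ∧ Km p q 0 2 = q ∧ Km p q 1 0 = q ∧
    Km p q 1 1 = p ∧ Km p q 1 2 = q ∧ Km p q 2 0 = q ∧ Km p q 2 1 = q ∧ Km p q 2 2 = p :=
  ⟨rfl, rfl, rfl, rfl, rfl, rfl, rfl, rfl, rfl⟩

theorem K_eq (hω : ω ^ 2 + ω + 1 = 0) (x δ : R) :
    gm ω x * dg 1 δ δ * (gm ω x * rm 1) = Km (x * x + (x * δ * x + x * δ * x)) (x * x - x * δ * x) := by
  obtain ⟨a00, a01, a02, a10, a11, a12, a20, a21, a22⟩ := gm_entries hω x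
  obtain ⟨r00, r01, r02, r10, r11, r12, r20, r21, r22⟩ := rm_entries (1 : R)
  obtain ⟨k00, k01, k02, k10, k11, k12, k20, k21, k22⟩ := dg_entries (1 : R) δ δ
  obtain ⟨p00, p01, p02, p10, p11, p12, p20, p21, p22⟩ := Km_entries (x * x + (x * δ * x + x * δ * x)) (x * x - x * δ * x)
  have h1 : (ω ^ 2 * ω ^ 2 + ω * ω : F) = -1 := by linear_combination (ω ^ 2 - ω + 1) * hω
  have h2 : (ω ^ 2 * ω + ω * ω ^ 2 : F) = 2 := by linear_combination (2 * (ω - 1)) * hω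
  have h3 : (ω ^ 2 + ω : F) = -1 := by linear_combination hω
  apply ext3 <;> simp only [mul3, p00, p01, p02, p10, p11, p12, p20, p21, p22] <;>
    simp only [a00, a01, a02, a10, a11, a12, a20, a21, a22, r00, r01, r02, r10, r11, r12, r20, r21, r22,
      k00, k01, k02, k10, k11, k12, k20, k21, k22, mul_zero, zero_mul, add_zero, zero_add, mul_one,
      smul_mul_assoc, mul_smul_comm, smul_smul, smul_zero]
  · module
  · calc _ = x * x + (ω ^ 2 + ω) • (x * δ * x) := by module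
      _ = _ := by rw [h3]; module
  · calc _ = x * x + (ω ^ 2 + ω) • (x * δ * x) := by module
      _ = _ := by rw [h3]; module
  · calc _ = x * x + (ω ^ 2 + ω) • (x * δ * x) := by module
      _ = _ := by rw [h3]; module
  · calc _ = x * x + (ω ^ 2 * ω + ω * ω ^ 2) • (x * δ * x) := by module
      _ = _ := by rw [h2]; module
  · calc _ = x * x + (ω ^ 2 * ω ^ 2 + ω * ω) • (x * δ * x) := by module
      _ = _ := by rw [h1]; module
  · calc _ = x * x + (ω ^ 2 + ω) • (x * δ * x) := by module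
      _ = _ := by rw [h3]; module
  · calc _ = x * x + (ω ^ 2 * ω ^ 2 + ω * ω) • (x * δ * x) := by module
      _ = _ := by rw [h1]; module
  · calc _ = x * x + (ω ^ 2 * ω + ω * ω ^ 2) • (x * δ * x) := by module
      _ = _ := by rw [h2]; module

theorem stage_two (hω : ω ^ 2 + ω + 1 = 0) {x δ : R} (hx : (3 : F) • (x * x) = 1) (hδ : δ * δ = 1) {l : F}
    (r6 : (dg 1 δ δ * (gm ω x * dg 1 δ δ * (gm ω x * (gm ω x * gm ω x)))) ^ 3 = l • (gm ω x * gm ω x)) :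
    ∃ p q : R, p = x * x + (x * δ * x + x * δ * x) ∧ q = x * x - x * δ * x ∧
      p = l • (p * p + (q * δ * q + q * δ * q)) ∧ δ * (p - q) * δ = -(l • ((p - q) * δ * (p - q))) := by
  have hs : gm ω x * gm ω x = rm 1 := by rw [gm_mul_gm hω, hx]
  rw [hs, K_eq hω] at r6
  refine ⟨_, _, rfl, rfl, ?_⟩
  have hKK : Km (x * x + (x * δ * x + x * δ * x)) (x * x - x * δ * x) *
      Km (x * x + (x * δ * x + x * δ * x)) (x * x - x * δ * x) = 1 := by
    rw [← K_eq hω]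
    have hss : rm 1 * rm 1 = (1 : Matrix (Fin 3) (Fin 3) R) := by
      obtain ⟨r00, r01, r02, r10, r11, r12, r20, r21, r22⟩ := rm_entries (1 : R)
      apply ext3 <;> simp only [mul3, r00, r01, r02, r10, r11, r12, r20, r21, r22] <;> simp
    have hkk : dg 1 δ δ * dg 1 δ δ = (1 : Matrix (Fin 3) (Fin 3) R) := by
      obtain ⟨k00, k01, k02, k10, k11, k12, k20, k21, k22⟩ := dg_entries (1 : R) δ δ
      apply ext3 <;> simp only [mul3, k00, k01, k02, k10, k11, k12, k20, k21, k22, hδ] <;> simp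
    have hgs : gm ω x * rm 1 * gm ω x = 1 := by
      rw [← hs, mul_assoc, mul_assoc, ← mul_assoc (gm ω x) (gm ω x), hs, hss]
    calc _ = gm ω x * dg 1 δ δ * (gm ω x * rm 1 * gm ω x) * dg 1 δ δ * (gm ω x * rm 1) := by noncomm_ring
      _ = gm ω x * (dg 1 δ δ * dg 1 δ δ) * (gm ω x * rm 1) := by rw [hgs]; noncomm_ring
      _ = gm ω x * gm ω x * rm 1 := by rw [hkk]; noncomm_ring
      _ = 1 := by rw [hs, hss]
  generalize x * x + (x * δ * x + x * δ * x) = p at r6 hKK ⊢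
  generalize x * x - x * δ * x = q at r6 hKK ⊢
  have hkk : dg 1 δ δ * dg 1 δ δ = (1 : Matrix (Fin 3) (Fin 3) R) := by
    obtain ⟨k00, k01, k02, k10, k11, k12, k20, k21, k22⟩ := dg_entries (1 : R) δ δ
    apply ext3 <;> simp only [mul3, k00, k01, k02, k10, k11, k12, k20, k21, k22, hδ] <;> simp
  have hrel : dg 1 δ δ * Km p q * dg 1 δ δ = l • (rm 1 * (Km p q * dg 1 δ δ * Km p q)) := by
    rw [← Matrix.smul_mul, ← r6]
    symm
    calc _ = dg 1 δ δ * Km p q * dg 1 δ δ * Km p q * (dg 1 δ δ * (Km p q * Km p q) * dg 1 δ δ) * Km p q := by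
          noncomm_ring
      _ = dg 1 δ δ * Km p q * dg 1 δ δ * (Km p q * (dg 1 δ δ * dg 1 δ δ) * Km p q) := by rw [hKK]; noncomm_ring
      _ = dg 1 δ δ * Km p q * dg 1 δ δ := by rw [hkk, mul_one, hKK, mul_one]
  obtain ⟨k00, k01, k02, k10, k11, k12, k20, k21, k22⟩ := dg_entries (1 : R) δ δ
  obtain ⟨r00, r01, r02, r10, r11, r12, r20, r21, r22⟩ := rm_entries (1 : R)
  obtain ⟨p00, p01, p02, p10, p11, p12, p20, p21, p22⟩ := Km_entries p q
  have e00 := congrFun (congrFun hrel 0) 0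
  have e11 := congrFun (congrFun hrel 1) 1
  have e12 := congrFun (congrFun hrel 1) 2
  simp only [Matrix.smul_apply, mul3, p00, p01, p02, p10, p11, p12, p20, p21, p22, k00, k01, k02, k10, k11, k12, k20,
    k21, k22, r00, r01, r02, r10, r11, r12, mul_zero, zero_mul, add_zero, zero_add, mul_one, one_mul] at e00 e11 e12
  refine ⟨?_, ?_⟩
  · rw [← add_assoc]; exact e00
  · rw [mul_sub, sub_mul, e11, e12, ← smul_sub, ← smul_neg]
    congr 1
    noncomm_ring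

end gen

end Cfsg.Agent.H890.A7
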