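import Mathlib

/-!
# Dimension six: two operators of order three with `ab = ω ba` (helper890)

`F⁶ = F³ ⊗ F²`, `a = diag(1, ω, ω²) ⊗ 1`, `b = cyclic ⊗ 1`.
-/

set_option autoImplicit false
set_option linter.unusedSectionVars false

namespace Cfsg.Agent.H890.A7

open Matrix

variable {F : Type*} [Field F]

/-- block matrices -/
def rho : Matrix (Fin 3) (Fin 3) (Matrix (Fin 2) (Fin 2) F) ≃+* Matrix (Fin 6) (Fin 6) F :=
  (Matrix.compRingEquiv (Fin 3) (Fin 2) F).trans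
    (Matrix.reindexRingEquiv F (finProdFinEquiv : Fin 3 × Fin 2 ≃ Fin 6))

theorem rho_apply (M : Matrix (Fin 3) (Fin 3) (Matrix (Fin 2) (Fin 2) F)) (i j : Fin 6) :
    rho M i j = M (finProdFinEquiv.symm i : Fin 3 × Fin 2).1 (finProdFinEquiv.symm j : Fin 3 × Fin 2).1
      (finProdFinEquiv.symm i : Fin 3 × Fin 2).2 (finProdFinEquiv.symm j : Fin 3 × Fin 2).2 := rfl

section gen

variable {R : Type*} [Ring R] [Algebra F R]

/-- `diag(1, ω, ω²)` -/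
def a3 (ω : F) : Matrix (Fin 3) (Fin 3) R :=
  Matrix.of fun i j => if i = j then (ω ^ (j : ℕ)) • 1 else 0

/-- the cyclic permutation -/
def b3 : Matrix (Fin 3) (Fin 3) R := Matrix.of fun i j => if i = j + 1 then 1 else 0

theorem a3_apply (ω : F) (i j : Fin 3) : (a3 ω : Matrix (Fin 3) (Fin 3) R) i j =
    if i = j then (ω ^ (j : ℕ)) • 1 else 0 := rfl

theorem b3_apply (i j : Fin 3) : (b3 : Matrix (Fin 3) (Fin 3) R) i j = if i = j + 1 then 1 else 0 := rfl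

theorem mul3 (A B : Matrix (Fin 3) (Fin 3) R) (i j : Fin 3) :
    (A * B) i j = A i 0 * B 0 j + A i 1 * B 1 j + A i 2 * B 2 j := by
  rw [Matrix.mul_apply, Fin.sum_univ_three]

theorem mul_a3 (A : Matrix (Fin 3) (Fin 3) R) (ω : F) (i j : Fin 3) :
    (A * a3 ω : Matrix (Fin 3) (Fin 3) R) i j = ω ^ (j : ℕ) • A i j := by
  rw [Matrix.mul_apply, Finset.sum_eq_single j]
  · rw [a3_apply, if_pos rfl, mul_smul_comm, mul_one]
  · intro l _ h
    rw [a3_apply, if_neg h, mul_zero]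
  · intro h; exact absurd (Finset.mem_univ _) h

theorem a3_mul (A : Matrix (Fin 3) (Fin 3) R) (ω : F) (i j : Fin 3) :
    (a3 ω * A : Matrix (Fin 3) (Fin 3) R) i j = ω ^ (i : ℕ) • A i j := by
  rw [Matrix.mul_apply, Finset.sum_eq_single i]
  · rw [a3_apply, if_pos rfl, smul_mul_assoc, one_mul]
  · intro l _ h
    rw [a3_apply, if_neg (Ne.symm h), zero_mul]
  · intro h; exact absurd (Finset.mem_univ _) h

theorem mul_b3 (A : Matrix (Fin 3) (Fin 3) R) (i j : Fin 3) :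
    (A * b3 : Matrix (Fin 3) (Fin 3) R) i j = A i (j + 1) := by
  rw [Matrix.mul_apply, Finset.sum_eq_single (j + 1)]
  · rw [b3_apply, if_pos rfl, mul_one]
  · intro l _ h
    rw [b3_apply, if_neg h, mul_zero]
  · intro h; exact absurd (Finset.mem_univ _) h

theorem b3_mul (A : Matrix (Fin 3) (Fin 3) R) (i j : Fin 3) :
    (b3 * A : Matrix (Fin 3) (Fin 3) R) (i + 1) j = A i j := by
  rw [Matrix.mul_apply, Finset.sum_eq_single i]
  · rw [b3_apply, if_pos rfl, one_mul]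
  · intro l _ h
    rw [b3_apply, if_neg (fun h' => h (add_right_cancel h').symm), zero_mul]
  · intro h; exact absurd (Finset.mem_univ _) h

end gen

theorem sum_single (c : Fin 3 × Fin 2 → (Fin 6 → F)) (x : F) (j₀ : Fin 3) (i : Fin 2) :
    (∑ j' : Fin 3, ∑ i' : Fin 2, (if j' = j₀ then x • (1 : Matrix (Fin 2) (Fin 2) F) else 0) i' i • c (j', i')) =
      x • c (j₀, i) := by
  rw [Finset.sum_eq_single j₀, Finset.sum_eq_single i]
  · rw [if_pos rfl, Matrix.smul_apply, Matrix.one_apply_eq, smul_eq_mul, mul_one]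
  · intro i' _ h
    rw [if_pos rfl, Matrix.smul_apply, Matrix.one_apply_ne h, smul_zero, zero_smul]
  · intro h; exact absurd (Finset.mem_univ _) h
  · intro j' _ h
    apply Finset.sum_eq_zero
    intro i' _
    rw [if_neg h, Matrix.zero_apply, zero_smul]
  · intro h; exact absurd (Finset.mem_univ _) h

section basis

variable {A B : Matrix (Fin 6) (Fin 6) F} {ω : F}

/-- the fixed space -/
def V0 (A : Matrix (Fin 6) (Fin 6) F) : Submodule F (Fin 6 → F) where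
  carrier := {v | A *ᵥ v = v}
  add_mem' := fun {u v} hu hv => by
    change A *ᵥ (u + v) = u + v
    rw [Matrix.mulVec_add, show A *ᵥ u = u from hu, show A *ᵥ v = v from hv]
  zero_mem' := Matrix.mulVec_zero _
  smul_mem' := fun c v hv => by
    change A *ᵥ (c • v) = c • v
    rw [Matrix.mulVec_smul, show A *ᵥ v = v from hv]

theorem mem_V0 {v : Fin 6 → F} : v ∈ V0 A ↔ A *ᵥ v = v := Iff.rfl

variable (hA : A ^ 3 = 1) (hB : B ^ 3 = 1) (hAB : A * B = ω • (B * A)) (hω : ω ^ 2 + ω + 1 = 0) (h3 : (3 : F) ≠ 0)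

include hA in
theorem proj_mem (v : Fin 6 → F) : (3 : F)⁻¹ • (v + A *ᵥ v + A *ᵥ (A *ᵥ v)) ∈ V0 A := by
  rw [mem_V0, Matrix.mulVec_smul, Matrix.mulVec_add, Matrix.mulVec_add]
  have : A *ᵥ (A *ᵥ (A *ᵥ v)) = v := by
    rw [Matrix.mulVec_mulVec, Matrix.mulVec_mulVec, ← sq, ← pow_succ, hA, Matrix.one_mulVec]
  rw [this]
  congr 1
  abel

/-- the projection -/
def pi0 (A : Matrix (Fin 6) (Fin 6) F) : (Fin 6 → F) →ₗ[F] (Fin 6 → F) :=
  (3 : F)⁻¹ • (LinearMap.id + Matrix.mulVecLin A + Matrix.mulVecLin (A * A))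

theorem pi0_apply (v : Fin 6 → F) : pi0 A v = (3 : F)⁻¹ • (v + A *ᵥ v + A *ᵥ (A *ᵥ v)) := by
  simp [pi0, Matrix.mulVec_mulVec]

include hAB in
theorem A_B (v : Fin 6 → F) : A *ᵥ (B *ᵥ v) = ω • (B *ᵥ (A *ᵥ v)) := by
  rw [Matrix.mulVec_mulVec, hAB, Matrix.smul_mulVec, Matrix.mulVec_mulVec]

include h3 in
theorem pi0_of_mem {v : Fin 6 → F} (hv : v ∈ V0 A) : pi0 A v = v := by
  rw [pi0_apply, mem_V0.1 hv, mem_V0.1 hv, ← smul_right_inj h3, smul_smul, mul_inv_cancel₀ h3, one_smul]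
  module

include hAB hω in
theorem pi0_B {v : Fin 6 → F} (hv : v ∈ V0 A) : pi0 A (B *ᵥ v) = 0 := by
  have h1 := A_B hAB v
  rw [mem_V0.1 hv] at h1
  rw [pi0_apply, h1, Matrix.mulVec_smul, h1]
  have : (B *ᵥ v + ω • B *ᵥ v + ω • ω • B *ᵥ v) = (ω ^ 2 + ω + 1) • (B *ᵥ v) := by module
  rw [this, hω, zero_smul, smul_zero]

include hAB hω in
theorem pi0_BB {v : Fin 6 → F} (hv : v ∈ V0 A) : pi0 A (B *ᵥ (B *ᵥ v)) = 0 := by
  have h1 : A *ᵥ (B *ᵥ (B *ᵥ v)) = (ω ^ 2) • (B *ᵥ (B *ᵥ v)) := by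
    rw [A_B hAB, A_B hAB, mem_V0.1 hv, Matrix.mulVec_smul, smul_smul, sq]
  rw [pi0_apply, h1, Matrix.mulVec_smul, h1]
  have h2 : ω ^ 4 = ω := by linear_combination (ω ^ 2 - ω) * hω
  have : (B *ᵥ (B *ᵥ v) + ω ^ 2 • B *ᵥ (B *ᵥ v) + ω ^ 2 • ω ^ 2 • B *ᵥ (B *ᵥ v)) =
      (ω ^ 4 + ω ^ 2 + 1) • (B *ᵥ (B *ᵥ v)) := by module
  rw [this, h2, show ω + ω ^ 2 + 1 = 0 by rw [← hω]; ring, zero_smul, smul_zero]

/-- `V₀³ → F⁶` -/
def Phi (A B : Matrix (Fin 6) (Fin 6) F) : (Fin 3 → V0 A) →ₗ[F] (Fin 6 → F) :=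
  (V0 A).subtype ∘ₗ LinearMap.proj 0 + (B.mulVecLin ∘ₗ (V0 A).subtype) ∘ₗ LinearMap.proj 1 +
    ((B * B).mulVecLin ∘ₗ (V0 A).subtype) ∘ₗ LinearMap.proj 2

theorem Phi_apply (x : Fin 3 → V0 A) :
    Phi A B x = (x 0 : Fin 6 → F) + B *ᵥ (x 1 : Fin 6 → F) + B *ᵥ (B *ᵥ (x 2 : Fin 6 → F)) := by
  simp [Phi, Matrix.mulVec_mulVec]

include hB hAB hω h3 in
theorem Phi_injective : Function.Injective (Phi A B) := by
  rw [injective_iff_map_eq_zero]
  intro x hx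
  rw [Phi_apply] at hx
  have hBBB : ∀ v : Fin 6 → F, B *ᵥ (B *ᵥ (B *ᵥ v)) = v := by
    intro v
    rw [Matrix.mulVec_mulVec, Matrix.mulVec_mulVec, ← sq, ← pow_succ, hB, Matrix.one_mulVec]
  have h0 := congrArg (pi0 A) hx
  rw [map_add, map_add, pi0_of_mem h3 (x 0).2, pi0_B hAB hω (x 1).2, pi0_BB hAB hω (x 2).2, map_zero, add_zero,
    add_zero] at h0
  have h2 := congrArg (fun v => pi0 A (B *ᵥ v)) hx
  simp only [Matrix.mulVec_add, hBBB, map_add, Matrix.mulVec_zero, map_zero] at h2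
  rw [pi0_B hAB hω (x 0).2, pi0_BB hAB hω (x 1).2, pi0_of_mem h3 (x 2).2, zero_add, zero_add] at h2
  have h1 := congrArg (fun v => pi0 A (B *ᵥ (B *ᵥ v))) hx
  simp only [Matrix.mulVec_add, hBBB, map_add, Matrix.mulVec_zero, map_zero] at h1
  rw [pi0_BB hAB hω (x 0).2, pi0_B hAB hω (x 2).2, pi0_of_mem h3 (x 1).2, zero_add, add_zero] at h1
  funext j
  fin_cases j
  · exact Subtype.ext h0
  · exact Subtype.ext h1
  · exact Subtype.ext h2

include hA hB hAB hω h3 in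
theorem Phi_surjective : Function.Surjective (Phi A B) := by
  intro v
  refine ⟨![⟨_, proj_mem hA v⟩, ⟨_, proj_mem hA (B *ᵥ (B *ᵥ v))⟩, ⟨_, proj_mem hA (B *ᵥ v)⟩], ?_⟩
  rw [Phi_apply]
  simp only [Matrix.cons_val_zero, Matrix.cons_val_one, Matrix.cons_val]
  have hBBB : ∀ v : Fin 6 → F, B *ᵥ (B *ᵥ (B *ᵥ v)) = v := by
    intro v
    rw [Matrix.mulVec_mulVec, Matrix.mulVec_mulVec, ← sq, ← pow_succ, hB, Matrix.one_mulVec]
  have e1 : ∀ v, B *ᵥ (A *ᵥ (B *ᵥ (B *ᵥ v))) = (ω ^ 2) • (A *ᵥ v) := by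
    intro v
    rw [A_B hAB, Matrix.mulVec_smul, A_B hAB, Matrix.mulVec_smul, Matrix.mulVec_smul, hBBB, smul_smul, sq]
  have hω3 : ω ^ 3 = 1 := by linear_combination (ω - 1) * hω
  have hBB : ∀ v : Fin 6 → F, B *ᵥ (B *ᵥ (A *ᵥ (B *ᵥ v))) = ω • (A *ᵥ v) := by
    intro v
    rw [A_B hAB, Matrix.mulVec_smul, Matrix.mulVec_smul, hBBB]
  have hB3 : ∀ v, (ω ^ 2) • (A *ᵥ v) = B *ᵥ (A *ᵥ (B *ᵥ (B *ᵥ v))) := fun v => (e1 v).symm
  have e2 : ∀ v, B *ᵥ (A *ᵥ (A *ᵥ (B *ᵥ (B *ᵥ v)))) = ω • (A *ᵥ (A *ᵥ v)) := by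
    intro v
    have h1 : A *ᵥ (A *ᵥ (B *ᵥ (B *ᵥ v))) = (ω ^ 4) • (B *ᵥ (B *ᵥ (A *ᵥ (A *ᵥ v)))) := by
      simp only [A_B hAB, Matrix.mulVec_smul, smul_smul]
      congr 1
      ring
    rw [h1, Matrix.mulVec_smul, hBBB]
    congr 1
    linear_combination (ω) * hω3
  have e3 : ∀ v, B *ᵥ (B *ᵥ (A *ᵥ (A *ᵥ (B *ᵥ v)))) = (ω ^ 2) • (A *ᵥ (A *ᵥ v)) := by
    intro v
    have h1 : A *ᵥ (A *ᵥ (B *ᵥ v)) = (ω ^ 2) • (B *ᵥ (A *ᵥ (A *ᵥ v))) := by
      simp only [A_B hAB, Matrix.mulVec_smul, smul_smul]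
      congr 1
      ring
    rw [h1, Matrix.mulVec_smul, Matrix.mulVec_smul, hBBB]
  simp only [Matrix.mulVec_smul, Matrix.mulVec_add, e1, e2, e3, hBBB, hBB]
  rw [← smul_right_inj h3]
  simp only [smul_add, smul_smul, mul_inv_cancel₀ h3]
  have h4 : ω ^ 2 = -1 - ω := by linear_combination hω
  rw [h4]
  simp only [← mul_assoc, mul_inv_cancel₀ h3]
  module

include hA hB hAB hω h3 in
theorem finrank_V0 : Module.finrank F (V0 A) = 2 := by
  have e := LinearEquiv.ofBijective (Phi A B) ⟨Phi_injective hB hAB hω h3, Phi_surjective hA hB hAB hω h3⟩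
  have h1 := e.finrank_eq
  rw [Module.finrank_pi_fintype] at h1
  simp at h1
  omega

/-- the six vectors -/
def cvec (B : Matrix (Fin 6) (Fin 6) F) (β : Fin 2 → (Fin 6 → F)) (s : Fin 3 × Fin 2) : Fin 6 → F :=
  (B ^ (s.1 : ℕ)) *ᵥ β s.2

theorem cvec_zero (β : Fin 2 → (Fin 6 → F)) (i : Fin 2) : cvec B β (0, i) = β i := by simp [cvec]
theorem cvec_one (β : Fin 2 → (Fin 6 → F)) (i : Fin 2) : cvec B β (1, i) = B *ᵥ β i := by simp [cvec]
theorem cvec_two (β : Fin 2 → (Fin 6 → F)) (i : Fin 2) : cvec B β (2, i) = B *ᵥ (B *ᵥ β i) := by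
  simp [cvec, sq, Matrix.mulVec_mulVec]

/-- the matrix with columns `cvec` -/
def Tm (c : Fin 3 × Fin 2 → (Fin 6 → F)) : Matrix (Fin 6) (Fin 6) F :=
  Matrix.of fun r s => c (finProdFinEquiv.symm s : Fin 3 × Fin 2) r

theorem mul_Tm (c : Fin 3 × Fin 2 → (Fin 6 → F)) (M : Matrix (Fin 6) (Fin 6) F)
    (N : Matrix (Fin 3) (Fin 3) (Matrix (Fin 2) (Fin 2) F))
    (h : ∀ (j : Fin 3) (i : Fin 2), M *ᵥ c (j, i) = ∑ j' : Fin 3, ∑ i' : Fin 2, N j' j i' i • c (j', i')) :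
    M * Tm c = Tm c * rho N := by
  ext r s
  obtain ⟨⟨j, i⟩, rfl⟩ := (finProdFinEquiv : Fin 3 × Fin 2 ≃ Fin 6).surjective s
  have h4 := congrFun (h j i) r
  rw [Matrix.mul_apply, Matrix.mul_apply]
  have e1 : (M *ᵥ c (j, i)) r = ∑ x, M r x * Tm c x (finProdFinEquiv (j, i)) := by
    show ∑ x, M r x * c (j, i) x = _
    apply Finset.sum_congr rfl
    intro x _
    show M r x * c (j, i) x = M r x * c ((finProdFinEquiv : Fin 3 × Fin 2 ≃ Fin 6).symm (finProdFinEquiv (j, i))) x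
    rw [Equiv.symm_apply_apply]
  rw [← e1, h4, Finset.sum_apply, ← (finProdFinEquiv : Fin 3 × Fin 2 ≃ Fin 6).sum_comp, Fintype.sum_prod_type]
  apply Finset.sum_congr rfl
  intro j' _
  rw [Finset.sum_apply]
  apply Finset.sum_congr rfl
  intro i' _
  rw [rho_apply, Equiv.symm_apply_apply, Equiv.symm_apply_apply, Pi.smul_apply, smul_eq_mul, mul_comm]
  show c (j', i') r * _ = c ((finProdFinEquiv : Fin 3 × Fin 2 ≃ Fin 6).symm (finProdFinEquiv (j', i'))) r * _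
  rw [Equiv.symm_apply_apply]

include hA hB hAB hω h3 in
theorem exists_cvec : ∃ β : Fin 2 → (Fin 6 → F), (∀ i, A *ᵥ β i = β i) ∧ LinearIndependent F (cvec B β) := by
  have hrank := finrank_V0 hA hB hAB hω h3
  let β : Module.Basis (Fin 2) F (V0 A) := Module.finBasisOfFinrankEq F _ hrank
  let e := LinearEquiv.ofBijective (Phi A B) ⟨Phi_injective hB hAB hω h3, Phi_surjective hA hB hAB hω h3⟩
  refine ⟨fun i => (β i : Fin 6 → F), fun i => (β i).2, ?_⟩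
  have h1 : LinearIndependent F (Pi.basis (fun _ : Fin 3 => β)) := Module.Basis.linearIndependent _
  have h2 := h1.map' e.toLinearMap e.ker
  have h3 := h2.comp (Equiv.sigmaEquivProd (Fin 3) (Fin 2)).symm (Equiv.injective _)
  have key : cvec B (fun i => (β i : Fin 6 → F)) =
      (e.toLinearMap ∘ (Pi.basis (fun _ : Fin 3 => β))) ∘ (Equiv.sigmaEquivProd (Fin 3) (Fin 2)).symm := by
    funext s
    obtain ⟨j, i⟩ := s
    show (B ^ (j : ℕ)) *ᵥ (β i : Fin 6 → F) = Phi A B (Pi.basis (fun _ : Fin 3 => β) ⟨j, i⟩)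
    rw [Pi.basis_apply, Phi_apply]
    fin_cases j
    · simp
    · simp
    · simp [sq, Matrix.mulVec_mulVec]
  rw [key]
  exact h3

include hA hB hAB hω h3 in
/-- **Normal form of `a`, `b`.** -/
theorem exists_block : ∃ T : GL (Fin 6) F,
    A * (T : Matrix (Fin 6) (Fin 6) F) = (T : Matrix (Fin 6) (Fin 6) F) * rho (a3 ω) ∧
    B * (T : Matrix (Fin 6) (Fin 6) F) = (T : Matrix (Fin 6) (Fin 6) F) * rho b3 := by
  obtain ⟨β, hβ, hc⟩ := exists_cvec hA hB hAB hω h3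
  have hT : IsUnit (Tm (cvec B β)) := by
    rw [← Matrix.linearIndependent_cols_iff_isUnit]
    have h1 := hc.comp ((finProdFinEquiv : Fin 3 × Fin 2 ≃ Fin 6).symm) (Equiv.injective _)
    have e1 : (Tm (cvec B β)).col = cvec B β ∘ ((finProdFinEquiv : Fin 3 × Fin 2 ≃ Fin 6).symm) := by
      funext s r
      rfl
    rw [e1]
    exact h1
  obtain ⟨T, hT⟩ := hT
  refine ⟨T, ?_, ?_⟩ <;> rw [hT] <;> apply mul_Tm
  · intro j i
    simp only [a3_apply]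
    have e1 : ∀ j' : Fin 3, (if j' = j then ω ^ (j : ℕ) • (1 : Matrix (Fin 2) (Fin 2) F) else 0) =
      if j' = j then ω ^ (j : ℕ) • (1 : Matrix (Fin 2) (Fin 2) F) else 0 := fun _ => rfl
    rw [sum_single]
    have h0 : (j : ℕ) = 0 ∨ (j : ℕ) = 1 ∨ (j : ℕ) = 2 := by omega
    rcases h0 with h0 | h0 | h0
    · obtain rfl : j = 0 := Fin.ext h0
      rw [h0, cvec_zero, hβ, pow_zero, one_smul]
    · obtain rfl : j = 1 := Fin.ext h0
      rw [h0, cvec_one, A_B hAB, hβ, pow_one]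
    · obtain rfl : j = 2 := Fin.ext h0
      rw [h0, cvec_two, A_B hAB, A_B hAB, hβ, Matrix.mulVec_smul, smul_smul, ← sq]
  · intro j i
    simp only [b3_apply]
    have h1 := sum_single (cvec B β) 1 (j + 1) i
    simp only [one_smul] at h1
    rw [h1]
    have h0 : (j : ℕ) = 0 ∨ (j : ℕ) = 1 ∨ (j : ℕ) = 2 := by omega
    rcases h0 with h0 | h0 | h0
    · obtain rfl : j = 0 := Fin.ext h0
      show B *ᵥ cvec B β (0, i) = cvec B β (1, i)
      rw [cvec_zero, cvec_one]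
    · obtain rfl : j = 1 := Fin.ext h0
      show B *ᵥ cvec B β (1, i) = cvec B β (2, i)
      rw [cvec_one, cvec_two]
    · obtain rfl : j = 2 := Fin.ext h0
      show B *ᵥ cvec B β (2, i) = cvec B β (0, i)
      rw [cvec_two, Matrix.mulVec_mulVec, Matrix.mulVec_mulVec, ← sq, ← pow_succ, hB, Matrix.one_mulVec, cvec_zero]

end basis

end Cfsg.Agent.H890.A7
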