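import Cfsg.Agent.H890.A7.Kill

/-!
# `3.A₇` in dimension six is not maximal in `SL₆`, `SU₆` (helper890)
-/

set_option autoImplicit false
set_option linter.unusedSectionVars false

namespace Cfsg.Agent.H890.A7

open Cfsg Cfsg.Geo Matrix Cfsg.Agent.H913.N6 Cfsg.Agent.H907
open Cfsg.Agent.H915.LD (Core Soc toSoc tr core_of_residual)

variable {F : Type*} [Field F] {H P : Subgroup (GL (Fin 6) F)}

local notation "M6" => Matrix (Fin 6) (Fin 6) F

/-- if `-1 ∉ P` or `2 = 0` there is a frame -/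
theorem frame_of [Finite F] (hC : Core P) (C : Cov P (alternatingGroup (Fin 7)))
    (hm : (-1 : GL (Fin 6) F) ∉ P ∨ (2 : F) = 0) (hz : ∃ c : Fˣ, c ≠ 1 ∧ c ^ 3 = 1 ∧ (sc c : GL (Fin 6) F) ∈ P) :
    ∃ ω a b k g T ε, Frame C ω a b k g T ε := by
  rcases exists_frame hC C hz with h | ⟨h2, h1, -⟩
  · exact h
  · exfalso
    rcases hm with hm | hm
    · apply hm
      have h3 : (-1 : GL (Fin 6) F) = sc (-1) := by
        apply Units.ext
        rw [coe_sc, Units.val_neg, Units.val_one, Units.val_neg, Units.val_one, neg_smul, one_smul]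
      rw [h3]
      exact h1
    · exact h2 hm

section SL

theorem Frame.false_SL [Finite F] {C : Cov P (alternatingGroup (Fin 7))} {ω : Fˣ} {a b k g T : GL (Fin 6) F} {ε : F}
    (h : Frame C ω a b k g T ε) (hmax : IsMaximalIn (specialLinear (Fin 6) F) H) (hH : IsResidualCore H P) : False := by
  refine h.false_of hmax hH fun Y hY => ?_
  rw [Cfsg.Agent.H918.mem_specialLinear]
  have h1 : (Y : M6).det = 1 := by
    rcases hY with hY | hY
    · rw [hY, det_D h.hω]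
    · rw [hY, det_Wn h.hω h.h3]
  rw [Units.val_mul, Units.val_mul, Matrix.det_mul, Matrix.det_mul, h1, mul_one, ← Matrix.det_mul, ← Units.val_mul,
    mul_inv_cancel, Units.val_one, Matrix.det_one]

end SL

/-- **`3.A₇` is not maximal in `SL₆(F)`.** -/
theorem not_maximal_SL [Finite F] (hmax : IsMaximalIn (specialLinear (Fin 6) F) H) (hH : IsResidualCore H P)
    (e : Soc P ≃* alternatingGroup (Fin 7)) (hm : (-1 : GL (Fin 6) F) ∉ P ∨ (2 : F) = 0)
    (hz : ∃ c : Fˣ, c ≠ 1 ∧ c ^ 3 = 1 ∧ (sc c : GL (Fin 6) F) ∈ P) : False := by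
  obtain ⟨ω, a, b, k, g, T, ε, h⟩ := frame_of (core_of_residual hH) (Cov.of e) hm hz
  exact h.false_SL hmax hH

section unitary

variable [Fintype F] {q : ℕ} (hF : Fintype.card F = q ^ 2)
include hF

theorem unitary_comm {T x : GL (Fin 6) F} {x' : Matrix (Fin 3) (Fin 3) (Matrix (Fin 2) (Fin 2) F)}
    (hx : x ∈ GU 6 F q) (hI : Im T x x') (hx' : dag q x' * x' = 1) :
    ((T : M6) * (ct q (T : M6) * T) * ((T⁻¹ : GL (Fin 6) F) : M6)) * x =
      x * ((T : M6) * (ct q (T : M6) * T) * ((T⁻¹ : GL (Fin 6) F) : M6)) := by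
  rw [mem_GU_iff_ct hF] at hx
  have hTT : (T : M6) * ((T⁻¹ : GL (Fin 6) F) : M6) = 1 := by rw [← Units.val_mul, mul_inv_cancel, Units.val_one]
  have hTT' : ((T⁻¹ : GL (Fin 6) F) : M6) * (T : M6) = 1 := by rw [← Units.val_mul, inv_mul_cancel, Units.val_one]
  have h1 : rho (dag q x') * rho x' = 1 := by rw [← map_mul, hx', map_one]
  have h2 : rho x' * rho (dag q x') = 1 := mul_eq_one_comm.1 h1
  have h3 : ct q (T : M6) * T = rho (dag q x') * (ct q (T : M6) * T) * rho x' := by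
    calc ct q (T : M6) * T = ct q (T : M6) * (ct q (x : M6) * x) * T := by rw [hx, mul_one]
      _ = (ct q (T : M6) * ct q (x : M6)) * (x * T) := by simp only [mul_assoc]
      _ = ct q (x * T : M6) * (x * T) := by rw [ct_mul hF]
      _ = ct q ((T : M6) * rho x') * ((T : M6) * rho x') := by rw [show (x : M6) * T = T * rho x' from hI]
      _ = _ := by rw [ct_mul hF, ct_rho]; simp only [mul_assoc]
  have h4 : rho x' * (ct q (T : M6) * T) = (ct q (T : M6) * T) * rho x' := by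
    nth_rewrite 1 [h3]
    rw [← mul_assoc, ← mul_assoc, h2, one_mul]
  have h5 : (x : M6) = T * rho x' * ((T⁻¹ : GL (Fin 6) F) : M6) := by
    rw [← show (x : M6) * T = T * rho x' from hI, mul_assoc, hTT, mul_one]
  generalize ct q (T : M6) * T = M at h3 h4
  rw [h5]
  calc (T : M6) * M * ((T⁻¹ : GL (Fin 6) F) : M6) * (T * rho x' * ((T⁻¹ : GL (Fin 6) F) : M6))
      = T * M * (((T⁻¹ : GL (Fin 6) F) : M6) * T) * rho x' * ((T⁻¹ : GL (Fin 6) F) : M6) := by simp only [mul_assoc]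
    _ = T * (M * rho x') * ((T⁻¹ : GL (Fin 6) F) : M6) := by rw [hTT', mul_one]; simp only [mul_assoc]
    _ = T * rho x' * (((T⁻¹ : GL (Fin 6) F) : M6) * T) * M * ((T⁻¹ : GL (Fin 6) F) : M6) := by
        rw [← h4, hTT', mul_one]; simp only [mul_assoc]
    _ = _ := by simp only [mul_assoc]

theorem unitary_transport {T Y : GL (Fin 6) F} {l : F} (hl : ct q (T : M6) * T = l • 1)
    (hY : ct q (Y : M6) * Y = 1) : T * Y * T⁻¹ ∈ GU 6 F q := by
  rw [mem_GU_iff_ct hF, Units.val_mul, Units.val_mul, ct_mul hF, ct_mul hF]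
  have hTT : (T : M6) * ((T⁻¹ : GL (Fin 6) F) : M6) = 1 := by rw [← Units.val_mul, mul_inv_cancel, Units.val_one]
  have h1 : ct q ((T⁻¹ : GL (Fin 6) F) : M6) * ct q (T : M6) = 1 := by rw [← ct_mul hF, hTT, ct_one hF]
  have h2 : ct q (T : M6) = l • ((T⁻¹ : GL (Fin 6) F) : M6) := by
    calc ct q (T : M6) = ct q (T : M6) * T * ((T⁻¹ : GL (Fin 6) F) : M6) := by rw [mul_assoc, hTT, mul_one]
      _ = _ := by rw [hl, Matrix.smul_mul, Matrix.one_mul]
  calc ct q ((T⁻¹ : GL (Fin 6) F) : M6) * (ct q (Y : M6) * ct q (T : M6)) *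
      ((T : M6) * Y * ((T⁻¹ : GL (Fin 6) F) : M6))
      = ct q ((T⁻¹ : GL (Fin 6) F) : M6) * (ct q (Y : M6) * (ct q (T : M6) * T) * Y) *
        ((T⁻¹ : GL (Fin 6) F) : M6) := by simp only [mul_assoc]
    _ = ct q ((T⁻¹ : GL (Fin 6) F) : M6) * (l • ((T⁻¹ : GL (Fin 6) F) : M6)) := by
        rw [hl, mul_smul_comm, mul_one, smul_mul_assoc, hY, mul_smul_comm, mul_one, smul_mul_assoc, mul_smul_comm]
    _ = 1 := by rw [← h2, h1]

theorem Frame.false_SU {C : Cov P (alternatingGroup (Fin 7))} {ω : Fˣ} {a b k g T : GL (Fin 6) F} {ε : F}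
    (h : Frame C ω a b k g T ε) (hmax : IsMaximalIn (GU 6 F q ⊓ specialLinear (Fin 6) F) H)
    (hH : IsResidualCore H P) : False := by
  have hPG : P ≤ GU 6 F q := hH.le.trans (hmax.1.le.trans inf_le_left)
  have hω3 : (ω : F) ^ 3 = 1 := omega_cube h.hω
  have hq : (ω : F) ^ q = (ω : F) ^ 2 := by
    have h1 := hPG h.mem
    rw [mem_GU_iff_ct hF, coe_sc, ct_smul_one hF, smul_mul_smul_comm, one_mul] at h1
    have h2 := congrFun (congrFun h1 0) 0
    rw [Matrix.smul_apply, Matrix.one_apply_eq, smul_eq_mul, mul_one] at h2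
    linear_combination (ω : F) ^ 2 * h2 - (ω : F) ^ q * hω3
  obtain ⟨l, hl⟩ := h.cent ((T : M6) * (ct q (T : M6) * T) * ((T⁻¹ : GL (Fin 6) F) : M6))
    (unitary_comm hF (hPG h.La.mem) h.IA (un_a3 hF h.hω hq))
    (unitary_comm hF (hPG h.Lb.mem) h.IB (un_b3 hF))
    (unitary_comm hF (hPG h.Lk.mem) h.IK (un_k hF h.hω hq))
    (unitary_comm hF (hPG h.Lg.mem) h.IG (un_g hF h.hω h.h3 hq h.hε))
  have hTT : (T : M6) * ((T⁻¹ : GL (Fin 6) F) : M6) = 1 := by rw [← Units.val_mul, mul_inv_cancel, Units.val_one]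
  have hTT' : ((T⁻¹ : GL (Fin 6) F) : M6) * (T : M6) = 1 := by rw [← Units.val_mul, inv_mul_cancel, Units.val_one]
  have hl' : ct q (T : M6) * T = l • 1 := by
    have h1 := congrArg (fun Z => ((T⁻¹ : GL (Fin 6) F) : M6) * Z * T) hl
    simp only [← mul_assoc, hTT', one_mul] at h1
    rw [mul_assoc _ _ (T : M6), hTT', mul_one, mul_smul_comm, mul_one, smul_mul_assoc, hTT'] at h1
    exact h1
  refine h.false_of hmax hH fun Y hY => ?_
  have hYct : ct q (Y : M6) * Y = 1 := by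
    rcases hY with hY | hY
    · rw [hY, ct_rho, ← map_mul, un_D hF h.hω hq, map_one]
    · rw [hY, un_Wn hF h.hω h.h3 hq]
  refine ⟨unitary_transport hF hl' hYct, ?_⟩
  show T * Y * T⁻¹ ∈ specialLinear (Fin 6) F
  rw [Cfsg.Agent.H918.mem_specialLinear]
  have h1 : (Y : M6).det = 1 := by
    rcases hY with hY | hY
    · rw [hY, det_D h.hω]
    · rw [hY, det_Wn h.hω h.h3]
  rw [Units.val_mul, Units.val_mul, Matrix.det_mul, Matrix.det_mul, h1, mul_one, ← Matrix.det_mul, ← Units.val_mul,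
    mul_inv_cancel, Units.val_one, Matrix.det_one]

/-- **`3.A₇` is not maximal in `SU₆(q)`.** -/
theorem not_maximal_SU (hmax : IsMaximalIn (GU 6 F q ⊓ specialLinear (Fin 6) F) H) (hH : IsResidualCore H P)
    (e : Soc P ≃* alternatingGroup (Fin 7)) (hm : (-1 : GL (Fin 6) F) ∉ P ∨ (2 : F) = 0)
    (hz : ∃ c : Fˣ, c ≠ 1 ∧ c ^ 3 = 1 ∧ (sc c : GL (Fin 6) F) ∈ P) : False := by
  obtain ⟨ω, a, b, k, g, T, ε, h⟩ := frame_of (core_of_residual hH) (Cov.of e) hm hz
  exact h.false_SU hF hmax hH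

end unitary

end Cfsg.Agent.H890.A7
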