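import Cfsg.Agent.H890.A7.Unit
import Cfsg.Agent.StandardComponent.AltAut

/-!
# `3.A₇` is not maximal in dimension six (helper890)
-/

set_option autoImplicit false
set_option linter.unusedSectionVars false

namespace Cfsg.Agent.H890.A7

open Cfsg Cfsg.Geo Matrix Cfsg.Agent.H913.N6 Cfsg.Agent.H890.K6 Cfsg.Agent.H890.Y3 Cfsg.Agent.H907
open Equiv Equiv.Perm
open Cfsg.Agent.H915.LD (Core Soc toSoc tr)

/-! ### the alternating group -/

theorem pow_nine {σ : alternatingGroup (Fin 7)} (h : σ ^ 9 = 1) : σ ^ 3 = 1 := by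
  have h1 : (σ : Perm (Fin 7)) ^ 9 = 1 := congrArg Subtype.val h
  apply Subtype.ext
  show (σ : Perm (Fin 7)) ^ 3 = 1
  rw [← orderOf_dvd_iff_pow_eq_one, ← lcm_cycleType, Multiset.lcm_dvd]
  intro n hn
  have h2 : n ∣ 9 := (dvd_of_mem_cycleType hn).trans (orderOf_dvd_of_pow_eq_one h1)
  have h3 : n ≤ 7 := (le_card_support_of_mem_cycleType hn).trans (by
    have := Finset.card_le_univ (σ : Perm (Fin 7)).support
    rwa [Fintype.card_fin] at this)
  have h4 : n ∈ Nat.divisors 9 := Nat.mem_divisors.2 ⟨h2, by norm_num⟩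
  have h5 : Nat.divisors 9 = {1, 3, 9} := by decide
  rw [h5] at h4
  simp only [Finset.mem_insert, Finset.mem_singleton] at h4
  rcases h4 with rfl | rfl | rfl
  · norm_num
  · norm_num
  · omega

theorem gen7 : Subgroup.closure ({r3, r3', kk, g4} : Set (alternatingGroup (Fin 7))) = ⊤ := by
  apply Subgroup.map_injective (alternatingGroup (Fin 7)).subtype_injective
  rw [MonoidHom.map_closure, ← MonoidHom.range_eq_map, Subgroup.range_subtype]
  set G := Subgroup.closure ((alternatingGroup (Fin 7)).subtype '' {r3, r3', kk, g4}) with hG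
  have m1 : (r3 : Perm (Fin 7)) ∈ G := Subgroup.subset_closure ⟨r3, by simp, rfl⟩
  have m2 : (r3' : Perm (Fin 7)) ∈ G := Subgroup.subset_closure ⟨r3', by simp, rfl⟩
  have m3 : (kk : Perm (Fin 7)) ∈ G := Subgroup.subset_closure ⟨kk, by simp, rfl⟩
  have m4 : (g4 : Perm (Fin 7)) ∈ G := Subgroup.subset_closure ⟨g4, by simp, rfl⟩
  apply le_antisymm
  · rw [hG, Subgroup.closure_le]
    rintro _ ⟨s, -, rfl⟩
    exact s.2
  · have ht : ∀ y : Fin 7, ∃ g ∈ G, g 0 = y := by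
      have t0 : ∃ g ∈ G, g 0 = (0 : Fin 7) := ⟨1, one_mem G, rfl⟩
      have step : ∀ {x y : Fin 7} {s : Perm (Fin 7)}, s ∈ G → s x = y → (∃ g ∈ G, g 0 = x) → ∃ g ∈ G, g 0 = y := by
        rintro x y s hs hxy ⟨g, hg, rfl⟩
        exact ⟨s * g, mul_mem hs hg, hxy⟩
      have t1 := step m1 (by decide : (r3 : Perm (Fin 7)) 0 = 1) t0
      have t2 := step m1 (by decide : (r3 : Perm (Fin 7)) 1 = 2) t1
      have t3 := step m4 (by decide : (g4 : Perm (Fin 7)) 0 = 3) t0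
      have t4 := step m2 (by decide : (r3' : Perm (Fin 7)) 3 = 4) t3
      have t5 := step m2 (by decide : (r3' : Perm (Fin 7)) 4 = 5) t4
      have t6 := step m3 (by decide : (kk : Perm (Fin 7)) 5 = 6) t5
      intro y
      fin_cases y
      exacts [t0, t1, t2, t3, t4, t5, t6]
    have hpt : MulAction.IsPretransitive G (Fin 7) := by
      refine ⟨fun x y => ?_⟩
      obtain ⟨g, hg, rfl⟩ := ht x
      obtain ⟨g', hg', rfl⟩ := ht y
      refine ⟨⟨g' * g⁻¹, mul_mem hg' (inv_mem hg)⟩, ?_⟩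
      show (g' * g⁻¹) (g 0) = g' 0
      simp
    have hpp : MulAction.IsPreprimitive G (Fin 7) := MulAction.IsPreprimitive.of_prime_card (by
      rw [Nat.card_eq_fintype_card, Fintype.card_fin]; norm_num)
    exact Perm.alternatingGroup_le_of_isPreprimitive_of_isThreeCycle_mem hpp (g := (r3 : Perm (Fin 7)))
      (by
        rw [← card_support_eq_three_iff]
        decide) m1

/-- `(i, j) ↦ r3 ^ i * r3' ^ j` -/
def f9 : Multiplicative (ZMod 3 × ZMod 3) →* alternatingGroup (Fin 7) :=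
  MonoidHom.mk' (fun x => r3 ^ (x.toAdd.1).val * r3' ^ (x.toAdd.2).val) (by decide +kernel)

theorem f9_injective : Function.Injective f9 := by
  rw [injective_iff_map_eq_one]
  decide +kernel

theorem index_f9 : f9.range.index = 280 := by
  have h1 : Nat.card f9.range = 9 := by
    rw [← Nat.card_congr (MonoidHom.ofInjective f9_injective).toEquiv]
    show Nat.card (ZMod 3 × ZMod 3) = 9
    rw [Nat.card_prod, Nat.card_zmod]
  have h2 := f9.range.card_mul_index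
  rw [h1, nat_card_alternatingGroup, Nat.card_eq_fintype_card, Fintype.card_fin] at h2
  have h3 : Nat.factorial 7 / 2 = 9 * 280 := by decide
  rw [h3] at h2
  exact Nat.eq_of_mul_eq_mul_left (by norm_num) h2

/-! ### the core -/

section core

variable {F : Type*} [Field F] {P : Subgroup (GL (Fin 6) F)}

local notation "R2" => Matrix (Fin 2) (Fin 2) F
local notation "M3" => Matrix (Fin 3) (Fin 3) (Matrix (Fin 2) (Fin 2) F)
local notation "M6" => Matrix (Fin 6) (Fin 6) F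

/-- lifts of generators and the scalars of `P` generate `P` -/
theorem le_of_gens {T : Type*} [Group T] (C : Cov P T) {S : Set T} (hS : Subgroup.closure S = ⊤)
    {Y : Subgroup (GL (Fin 6) F)} (hY : ∀ s ∈ S, ∃ y ∈ Y, C.L y s) (hsc : ∀ c, sc c ∈ P → sc c ∈ Y) : P ≤ Y := by
  have key : ∀ σ : T, ∃ y ∈ Y, C.L y σ := by
    intro σ
    have h1 : σ ∈ Subgroup.closure S := by rw [hS]; exact Subgroup.mem_top _
    induction h1 using Subgroup.closure_induction with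
    | mem x hx => exact hY x hx
    | one => exact ⟨1, one_mem Y, Cov.L.one⟩
    | mul x y _ _ h h' =>
      obtain ⟨u, hu, hu'⟩ := h
      obtain ⟨v, hv, hv'⟩ := h'
      exact ⟨u * v, mul_mem hu hv, hu'.mul hv'⟩
    | inv x _ h =>
      obtain ⟨u, hu, hu'⟩ := h
      exact ⟨u⁻¹, inv_mem hu, hu'.inv⟩
  intro x hx
  obtain ⟨σ, hσ⟩ := Cov.L.of_mem C hx
  obtain ⟨y, hy, hy'⟩ := key σ
  obtain ⟨c, hc, rfl⟩ := hσ.exists_sc hy'
  exact mul_mem (hsc c hc) hy

/-- The data of a normal form. -/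
structure Frame (C : Cov P (alternatingGroup (Fin 7))) (ω : Fˣ) (a b k g T : GL (Fin 6) F) (ε : F) : Prop where
  rel : Rel 1 ω a b k g
  La : C.L a r3
  Lb : C.L b r3'
  Lk : C.L k kk
  Lg : C.L g g4
  hω : (ω : F) ^ 2 + ω + 1 = 0
  h3 : (3 : F) ≠ 0
  hω3 : ω ^ 3 = 1
  hω1 : ω ≠ 1
  mem : sc ω ∈ P
  hε : ε ^ 2 = 1
  IA : Im T a (a3 (ω : F))
  IB : Im T b b3
  IK : Im T k (dg 1 (d0 (ω : F)) (d0 (ω : F)))
  IG : Im T g (ε • gm (ω : F) (x0 (ω : F)))
  cent : ∀ X : M6, X * a = a * X → X * b = b * X → X * k = k * X → X * g = g * X → ∃ c : F, X = c • 1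

variable {C : Cov P (alternatingGroup (Fin 7))}

/-- the lifts of the two `3`-cycles do not commute -/
theorem omega_ne_one [Finite F] (hC : Core P) (hz : ∃ c : Fˣ, c ≠ 1 ∧ c ^ 3 = 1 ∧ sc c ∈ P) {a b : GL (Fin 6) F}
    (La : C.L a r3) (Lb : C.L b r3') : a * b ≠ b * a := by
  intro hab
  obtain ⟨c, hc1, hc3, hc⟩ := hz
  have hcomm : Commute a b := hab
  let S : Subgroup P := f9.range.comap C.π
  have hS : ∀ x ∈ S, ∀ y ∈ S, x * y = y * x := by
    have form : ∀ x ∈ S, ∃ (d : Fˣ) (i j : ℕ), (x : GL (Fin 6) F) = sc d * (a ^ i * b ^ j) := by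
      intro x hx
      obtain ⟨m, hm⟩ := hx
      have h1 : C.L (x : GL (Fin 6) F) (r3 ^ (m.toAdd.1).val * r3' ^ (m.toAdd.2).val) := ⟨x.2, hm.symm⟩
      have h2 := (La.pow (m.toAdd.1).val).mul (Lb.pow (m.toAdd.2).val)
      obtain ⟨d, -, hd⟩ := h1.exists_sc h2
      exact ⟨d, _, _, hd⟩
    intro x hx y hy
    obtain ⟨d, i, j, h1⟩ := form x hx
    obtain ⟨d', i', j', h2⟩ := form y hy
    apply Subtype.ext
    rw [Subgroup.coe_mul, Subgroup.coe_mul, h1, h2]
    have e1 : Commute (a ^ i * b ^ j) (a ^ i' * b ^ j') := by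
      apply Commute.mul_left
      · exact Commute.mul_right (Commute.pow_pow (Commute.refl a) _ _) (hcomm.pow_pow _ _)
      · exact Commute.mul_right (hcomm.symm.pow_pow _ _) (Commute.pow_pow (Commute.refl b) _ _)
    have e2 : ∀ (e : Fˣ) (z : GL (Fin 6) F), Commute (sc e) z := fun e z => sc_comm e z
    exact ((e2 d _).mul_left ((e2 d' _).symm.mul_right e1)).eq
  have hzS : (⟨sc c, hc⟩ : P) ∈ S := by
    show C.π _ ∈ f9.range
    rw [(C.ker ⟨sc c, hc⟩).2 (sc_mem_scalars c)]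
    exact one_mem _
  have h1 := pow_index_mem hC.commutator_top S hS hzS (fun x => Subtype.ext (sc_comm c (x : GL (Fin 6) F)))
  have h2 : S.index = 280 := by
    rw [← index_f9]
    exact Subgroup.index_comap_of_surjective _ C.surj
  rw [h2] at h1
  have h3 : sc (c ^ 280) = (1 : GL (Fin 6) F) := by
    rw [sc_pow]
    exact congrArg Subtype.val h1
  rw [← sc_one] at h3
  have h4 := sc_inj h3
  apply hc1
  have h6 : c ^ 280 = (c ^ 3) ^ 93 * c := by rw [← pow_mul, ← pow_succ]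
  rw [h6, hc3, one_pow, one_mul] at h4
  exact h4

/-- the scalars of a core in dimension six -/
theorem z6_of (hC : Core P) : Z6 P := by
  intro c hc
  have h1 := hC.scalar_pow hc (coe_sc c)
  rw [Fintype.card_fin] at h1
  exact Units.ext (by rw [Units.val_pow_eq_pow_val, h1, Units.val_one])

/-- the common commutant of the generators -/
theorem cent_of_gens (hC : Core P) {a b k g : GL (Fin 6) F} (La : C.L a r3) (Lb : C.L b r3') (Lk : C.L k kk)
    (Lg : C.L g g4) : ∀ X : M6, X * a = a * X → X * b = b * X → X * k = k * X → X * g = g * X → ∃ c : F, X = c • 1 := by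
  intro X ha hb hk hg
  apply hC.absIrred.2
  let Y : Subgroup (GL (Fin 6) F) :=
    { carrier := {x | X * (x : M6) = (x : M6) * X}
      mul_mem' := fun {x y} hx hy => by
        change X * ((x * y : GL (Fin 6) F) : M6) = ((x * y : GL (Fin 6) F) : M6) * X
        rw [Units.val_mul, ← mul_assoc, show X * (x : M6) = (x : M6) * X from hx, mul_assoc,
          show X * (y : M6) = (y : M6) * X from hy, mul_assoc]
      one_mem' := by
        change X * ((1 : GL (Fin 6) F) : M6) = ((1 : GL (Fin 6) F) : M6) * X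
        rw [Units.val_one, mul_one, one_mul]
      inv_mem' := fun {x} hx => by
        change X * ((x⁻¹ : GL (Fin 6) F) : M6) = ((x⁻¹ : GL (Fin 6) F) : M6) * X
        have h1 : ((x⁻¹ : GL (Fin 6) F) : M6) * (X * (x : M6)) * ((x⁻¹ : GL (Fin 6) F) : M6) =
          ((x⁻¹ : GL (Fin 6) F) : M6) * ((x : M6) * X) * ((x⁻¹ : GL (Fin 6) F) : M6) := by
            rw [show X * (x : M6) = (x : M6) * X from hx]
        have h2 : (x : M6) * ((x⁻¹ : GL (Fin 6) F) : M6) = 1 := by rw [← Units.val_mul, mul_inv_cancel, Units.val_one]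
        have h4 : ((x⁻¹ : GL (Fin 6) F) : M6) * (x : M6) = 1 := by rw [← Units.val_mul, inv_mul_cancel, Units.val_one]
        rw [mul_assoc, mul_assoc, h2, mul_one, ← mul_assoc (((x⁻¹ : GL (Fin 6) F) : M6)) (x : M6), h4, one_mul] at h1
        exact h1.symm }
  have hPY : P ≤ Y := by
    refine le_of_gens C gen7 ?_ ?_
    · intro s hs
      simp only [Set.mem_insert_iff, Set.mem_singleton_iff] at hs
      rcases hs with rfl | rfl | rfl | rfl
      exacts [⟨a, ha, La⟩, ⟨b, hb, Lb⟩, ⟨k, hk, Lk⟩, ⟨g, hg, Lg⟩]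
    · intro c _
      change X * ((sc c : GL (Fin 6) F) : M6) = ((sc c : GL (Fin 6) F) : M6) * X
      rw [coe_sc, mul_smul_comm, smul_mul_assoc, mul_one, one_mul]
  rintro _ ⟨x, hx, rfl⟩
  exact hPY hx

/-- The data, `e = ± 1` -/
theorem exists_data [Finite F] (hC : Core P) (C : Cov P (alternatingGroup (Fin 7)))
    (hz : ∃ c : Fˣ, c ≠ 1 ∧ c ^ 3 = 1 ∧ sc c ∈ P) : ∃ (e ω : Fˣ) (a b k g : GL (Fin 6) F), e ^ 2 = 1 ∧ sc e ∈ P ∧
      Rel e ω a b k g ∧ C.L a r3 ∧ C.L b r3' ∧ C.L k kk ∧ C.L g g4 ∧ sc ω ∈ P ∧ ω ^ 3 = 1 ∧ ω ≠ 1 ∧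
      (ω : F) ^ 2 + ω + 1 = 0 ∧ (3 : F) ≠ 0 ∧
      ∀ X : M6, X * a = a * X → X * b = b * X → X * k = k * X → X * g = g * X → ∃ c : F, X = c • 1 := by
  obtain ⟨k₀, e, hk₀, he, hk₀2, heP⟩ := exists_k (C := C) (z6_of hC)
  obtain ⟨ω, a, b, k, g, hrel, La, Lb, Lk, Lg, hωP⟩ := exists_rel (C := C) (z6_of hC) he hk₀ hk₀2
  have hω1 : ω ≠ 1 := by
    rintro rfl
    apply omega_ne_one hC hz La Lb
    rw [hrel.ab, sc_one, one_mul]
  have hω3 := hrel.ω3
  have hω3' : (ω : F) ^ 3 = 1 := by rw [← Units.val_pow_eq_pow_val, hω3, Units.val_one]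
  have hω1' : (ω : F) ≠ 1 := fun h => hω1 (Units.ext h)
  exact ⟨e, ω, a, b, k, g, he, heP, hrel, La, Lb, Lk, Lg, hωP, hω3, hω1, omega_sum hω3' hω1', three_ne hω3' hω1',
    cent_of_gens hC La Lb Lk Lg⟩

/-- **Existence of the frame.** -/
theorem exists_frame [Finite F] (hC : Core P) (C : Cov P (alternatingGroup (Fin 7)))
    (hz : ∃ c : Fˣ, c ≠ 1 ∧ c ^ 3 = 1 ∧ sc c ∈ P) :
    (∃ ω a b k g T ε, Frame C ω a b k g T ε) ∨
    ((2 : F) ≠ 0 ∧ sc (-1) ∈ P ∧ ∃ (ω : Fˣ) (a b k g : GL (Fin 6) F),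
      Rel (-1) ω a b k g ∧ C.L a r3 ∧ C.L b r3' ∧ C.L k kk ∧ C.L g g4 ∧ sc ω ∈ P ∧ ω ^ 3 = 1 ∧ ω ≠ 1 ∧
      (ω : F) ^ 2 + ω + 1 = 0 ∧ (3 : F) ≠ 0 ∧
      ∀ X : M6, X * a = a * X → X * b = b * X → X * k = k * X → X * g = g * X → ∃ c : F, X = c • 1) := by
  obtain ⟨e, ω, a, b, k, g, he, heP, hrel, La, Lb, Lk, Lg, hωP, hω3, hω1, hω, h3, hcent⟩ := exists_data hC C hz
  by_cases he1 : e = 1
  · left
    subst he1
    have hdet : (g : M6).det = 1 := by
      rw [← Matrix.GeneralLinearGroup.val_det_apply, hC.det Lg.mem, Units.val_one]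
    obtain ⟨T, ε, hε, hA, hB, hK, hG⟩ := normal_form hrel hω h3 hdet hcent
    exact ⟨ω, a, b, k, g, T, ε, hrel, La, Lb, Lk, Lg, hω, h3, hω3, hω1, hωP, hε, hA, hB, hK, hG, hcent⟩
  · right
    have hem : e = -1 := by
      have h1 : ((e : F) - 1) * ((e : F) + 1) = 0 := by
        have : (e : F) ^ 2 = 1 := by rw [← Units.val_pow_eq_pow_val, he, Units.val_one]
        linear_combination this
      rcases mul_eq_zero.1 h1 with h2 | h2
      · exact absurd (Units.ext (sub_eq_zero.1 h2)) he1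
      · exact Units.ext (by rw [Units.val_neg, Units.val_one]; exact eq_neg_of_add_eq_zero_left h2)
    subst hem
    refine ⟨fun h2 => he1 (Units.ext ?_), heP, ω, a, b, k, g, hrel, La, Lb, Lk, Lg, hωP, hω3, hω1, hω, h3, hcent⟩
    rw [Units.val_neg, Units.val_one]
    linear_combination -h2

variable {ω : Fˣ} {a b k g T : GL (Fin 6) F} {ε : F}

/-- `P` preserves the transported lines -/
theorem Frame.le_X [Finite F] (h : Frame C ω a b k g T ε) : P ≤ (X (ω : F)).map (MulAut.conj T).toMonoidHom := by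
  have key : ∀ (x : GL (Fin 6) F) (x' : M3) (M : ℕ → ℕ → E) (tab : List (E × ℕ)) (θ : F), Im T x x' → θ ≠ 0 →
      (∀ r s : Fin 6, θ * rho x' r s = ev (ω : F) (M r s)) → chk M tab = true →
      x ∈ (X (ω : F)).map (MulAut.conj T).toMonoidHom := by
    intro x x' M tab θ hx hθ hM hchk
    refine ⟨T⁻¹ * x * T, ?_, ?_⟩
    · show T⁻¹ * x * T ∈ X (ω : F)
      rw [mem_X]
      intro v hv
      have e : ((T⁻¹ * x * T : GL (Fin 6) F) : M6) = rho x' := by
        rw [mul_assoc, Units.val_mul, Units.val_mul, hx, ← mul_assoc, ← Units.val_mul, inv_mul_cancel, Units.val_one,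
          one_mul]
      rw [e]
      exact isLine_mulVec h.hω h.h3 hchk hθ hM hv
    · show T * (T⁻¹ * x * T) * T⁻¹ = x
      group
  refine le_of_gens C gen7 ?_ ?_
  · intro s hs
    simp only [Set.mem_insert_iff, Set.mem_singleton_iff] at hs
    rcases hs with rfl | rfl | rfl | rfl
    · exact ⟨a, key a _ _ _ 1 h.IA one_ne_zero (ent_A h.hω) chk_A, h.La⟩
    · exact ⟨b, key b _ _ _ 1 h.IB one_ne_zero ent_B chk_B, h.Lb⟩
    · exact ⟨k, key k _ _ _ 1 h.IK one_ne_zero (ent_K h.hω) chk_K, h.Lk⟩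
    · refine ⟨g, key g _ _ _ _ h.IG ?_ (ent_G h.hω h.h3 h.hε) chk_G, h.Lg⟩
      refine mul_ne_zero (fun h0 => ?_) (theta_ne h.hω h.h3)
      have := h.hε
      rw [h0] at this
      norm_num at this
  · intro c _
    refine ⟨sc c, sc_mem_X _ c, ?_⟩
    show T * sc c * T⁻¹ = sc c
    rw [← sc_comm, mul_inv_cancel_right]

/-- no outer automorphisms -/
theorem Frame.mem_of_norm [Finite F] (h : Frame C ω a b k g T ε) {H : Subgroup (GL (Fin 6) F)}
    (hH : IsResidualCore H P) {x : GL (Fin 6) F} (hx : x ∈ H) : ∃ y ∈ P, ∃ c, x = y * sc c := by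
  have hxi : ∀ y ∈ P, x⁻¹ * y * x ∈ P := by
    intro y hy
    have := hH.normal x⁻¹ (inv_mem hx) y hy
    rwa [inv_inv] at this
  obtain ⟨φ, hφ⟩ := Cov.exists_aut C (hH.normal x hx) hxi
  obtain ⟨σ, hσ⟩ := Cfsg.Agent.StandardComponent.AltAut.exists_conj (m := 5) le_rfl φ
  rcases Int.units_eq_one_or (sign σ) with hs | hs
  · obtain ⟨y, c, hy, hc⟩ := Cov.mem_of_inner (C := C) (h := x) (φ := φ)
      (fun g hg hcs => hH.centralizer_scalar _ (mul_mem (inv_mem (hH.le hg)) hx) hcs) hφ (γ := ⟨σ, hs⟩)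
      (fun τ => Subtype.ext (hσ τ))
    exact ⟨y, hy.mem, c, hc⟩
  · exfalso
    have hmem : swap 0 1 * σ⁻¹ ∈ alternatingGroup (Fin 7) := by
      rw [mem_alternatingGroup, map_mul, map_inv, hs, sign_swap (by decide)]
      decide
    obtain ⟨y, hy⟩ := C.exists_lift ⟨swap 0 1 * σ⁻¹, hmem⟩
    have key : ∀ u τ, C.L u τ → ∀ τ' : alternatingGroup (Fin 7), (τ' : Perm (Fin 7)) =
        swap 0 1 * (τ : Perm (Fin 7)) * (swap 0 1)⁻¹ →
        C.L ((y * x) * u * (y * x)⁻¹) τ' := by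
      intro u τ hu τ' hτ'
      have h1 := (hφ u τ hu).conj hy
      have e : y * (x * u * x⁻¹) * y⁻¹ = (y * x) * u * (y * x)⁻¹ := by group
      rw [e] at h1
      refine L_congr h1 (Subtype.ext ?_)
      rw [hτ']
      show swap 0 1 * σ⁻¹ * (φ τ : Perm (Fin 7)) * (swap 0 1 * σ⁻¹)⁻¹ = _
      rw [hσ]
      group
    have h1 := key a r3 h.La r3⁻¹ (by decide)
    have h2 := key b r3' h.Lb r3' (by decide)
    obtain ⟨c₁, -, hc₁⟩ := h1.exists_sc h.La.inv
    obtain ⟨c₂, -, hc₂⟩ := h2.exists_sc h.Lb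
    have h4 : (y * x) * (a * b) * (y * x)⁻¹ = sc (ω : Fˣ) * ((y * x) * (b * a) * (y * x)⁻¹) := by
      rw [h.rel.ab, ← mul_assoc (y * x) (sc ω), ← sc_comm]; group
    have h5 : (y * x) * (a * b) * (y * x)⁻¹ = (sc c₁ * a⁻¹) * (sc c₂ * b) := by rw [← hc₁, ← hc₂]; group
    have h6 : (y * x) * (b * a) * (y * x)⁻¹ = (sc c₂ * b) * (sc c₁ * a⁻¹) := by rw [← hc₁, ← hc₂]; group
    rw [h5, h6] at h4
    have h7 : a⁻¹ * b = sc ω * (b * a⁻¹) := by
      have e1 : (sc c₁ * a⁻¹) * (sc c₂ * b) = (sc c₁ * sc c₂) * (a⁻¹ * b) := by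
        rw [mul_assoc, ← mul_assoc a⁻¹, ← sc_comm c₂ a⁻¹]; group
      have e2 : sc ω * ((sc c₂ * b) * (sc c₁ * a⁻¹)) = (sc c₁ * sc c₂) * (sc ω * (b * a⁻¹)) := by
        rw [mul_assoc (sc c₂) b, ← mul_assoc b, ← sc_comm c₁ b, sc_comm c₁ (sc c₂)]
        rw [← mul_assoc (sc ω), ← mul_assoc (sc ω * sc c₂), sc_comm ω (sc c₂)]
        rw [mul_assoc (sc c₂) (sc ω), ← mul_assoc (sc ω) (sc c₁), sc_comm ω (sc c₁)]
        group
      rw [e1, e2] at h4
      exact mul_left_cancel h4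
    have h8 : b * a = sc ω * (a * b) := by
      calc b * a = a * (a⁻¹ * b) * a := by group
        _ = a * (sc ω * (b * a⁻¹)) * a := by rw [h7]
        _ = sc ω * (a * b) := by rw [← mul_assoc a, ← sc_comm ω a]; group
    rw [h.rel.ab, ← mul_assoc, ← sc_mul] at h8
    have h9 : sc (ω * ω) = (1 : GL (Fin 6) F) := by
      have := mul_right_cancel (a := (1 : GL (Fin 6) F)) (b := b * a) (c := sc (ω * ω)) (by rw [one_mul]; exact h8)
      exact this.symm
    rw [← sc_one] at h9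
    have h10 := sc_inj h9
    exact h.hω1 (eq_one_of h.hω3 (by rw [sq]; exact h10))

/-! ### the elements `D` and `W` -/

theorem det_D {ω : F} (hω : ω ^ 2 + ω + 1 = 0) : (rho (dD ω)).det = 1 := by
  have h1 : rho (dD ω) = Matrix.diagonal (fun s : Fin 6 => ev ω (ME_D s s)) := by
    ext r s
    rw [← one_mul (rho (dD ω) r s), ent_D hω, Matrix.diagonal_apply]
    by_cases h : r = s
    · rw [if_pos h, h]
    · rw [if_neg h, ME_D, if_neg (fun h' => h (Fin.ext h')), ev_zero]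
  rw [h1, Matrix.det_diagonal, Fin.prod_univ_six]
  simp [ME_D, ev]
  linear_combination -hω

theorem cube_D (ω : F) : (dD ω * b3) ^ 3 = dg (!![ω, 0; 0, ω ^ 2] : R2) !![ω, 0; 0, ω ^ 2] !![ω, 0; 0, ω ^ 2] := by
  rw [pow_succ, sq, dD]
  obtain ⟨k00, k01, k02, k10, k11, k12, k20, k21, k22⟩ := dg_entries (!![ω, 0; 0, ω ^ 2] : R2) 1 1
  obtain ⟨l00, l01, l02, l10, l11, l12, l20, l21, l22⟩ :=
    dg_entries (!![ω, 0; 0, ω ^ 2] : R2) !![ω, 0; 0, ω ^ 2] !![ω, 0; 0, ω ^ 2]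
  have e : ∀ i j, (dg (!![ω, 0; 0, ω ^ 2] : R2) 1 1 * b3 : M3) i j = dg (!![ω, 0; 0, ω ^ 2] : R2) 1 1 i (j + 1) :=
    fun i j => mul_b3 _ i j
  have e00 := e 0 0
  have e01 := e 0 1
  have e02 := e 0 2
  have e10 := e 1 0
  have e11 := e 1 1
  have e12 := e 1 2
  have e20 := e 2 0
  have e21 := e 2 1
  have e22 := e 2 2
  rw [show (0 : Fin 3) + 1 = 1 from rfl] at e00 e10 e20
  rw [show (1 : Fin 3) + 1 = 2 from rfl] at e01 e11 e21
  rw [show (2 : Fin 3) + 1 = 0 from rfl] at e02 e12 e22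
  rw [k01] at e00
  rw [k02] at e01
  rw [k00] at e02
  rw [k11] at e10
  rw [k12] at e11
  rw [k10] at e12
  rw [k21] at e20
  rw [k22] at e21
  rw [k20] at e22
  apply ext3 <;> simp only [mul3, e00, e01, e02, e10, e11, e12, e20, e21, e22, l00, l01, l02, l10, l11, l12, l20, l21,
    l22, mul_zero, zero_mul, add_zero, zero_add, mul_one, one_mul]

/-- **`H` is not maximal in `S`.** -/
theorem Frame.false_of [Finite F] (h : Frame C ω a b k g T ε) {S H : Subgroup (GL (Fin 6) F)}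
    (hmax : IsMaximalIn S H) (hH : IsResidualCore H P)
    (hS : ∀ Y : GL (Fin 6) F, (Y : M6) = rho (dD (ω : F)) ∨ (Y : M6) = Wn (ω : F) → T * Y * T⁻¹ ∈ S) : False := by
  obtain ⟨D, hD⟩ : ∃ D : GL (Fin 6) F, (D : M6) = rho (dD (ω : F)) :=
    ⟨Matrix.GeneralLinearGroup.mkOfDetNeZero (rho (dD (ω : F))) (by rw [det_D h.hω]; exact one_ne_zero), rfl⟩
  obtain ⟨W, hW⟩ : ∃ W : GL (Fin 6) F, (W : M6) = Wn (ω : F) :=
    ⟨Matrix.GeneralLinearGroup.mkOfDetNeZero (Wn (ω : F)) (by rw [det_Wn h.hω h.h3]; exact one_ne_zero), rfl⟩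
  have hHX : H ≤ (X (ω : F)).map (MulAut.conj T).toMonoidHom := by
    intro x hx
    obtain ⟨y, hy, c, rfl⟩ := h.mem_of_norm hH hx
    refine mul_mem (h.le_X hy) ⟨sc c, sc_mem_X _ c, ?_⟩
    show T * sc c * T⁻¹ = sc c
    rw [← sc_comm, mul_inv_cancel_right]
  have hDX : T * D * T⁻¹ ∈ (X (ω : F)).map (MulAut.conj T).toMonoidHom := by
    refine ⟨D, ?_, rfl⟩
    show D ∈ X (ω : F)
    rw [mem_X]
    intro v hv
    rw [hD]
    exact isLine_mulVec h.hω h.h3 chk_D one_ne_zero (ent_D h.hω) hv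
  have hDH : T * D * T⁻¹ ∉ H := by
    intro hDH
    have hy : T * D * T⁻¹ * b ∈ H := mul_mem hDH (hH.le h.Lb.mem)
    obtain ⟨x, hx, c, hc⟩ := h.mem_of_norm hH hy
    obtain ⟨σ, hσ⟩ := Cov.L.of_mem C hx
    have hIm : Im T ((T * D * T⁻¹ * b : GL (Fin 6) F) : M6) (dD (ω : F) * b3) := by
      have h1 : Im T ((T * D * T⁻¹ : GL (Fin 6) F) : M6) (dD (ω : F)) := by
        rw [Im, ← Units.val_mul, inv_mul_cancel_right, Units.val_mul, hD]
      rw [Units.val_mul (T * D * T⁻¹ : GL (Fin 6) F)]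
      exact h1.mul h.IB
    have hIm3 := hIm.pow 3
    rw [cube_D, ← Units.val_pow_eq_pow_val] at hIm3
    have hδ9 : (!![(ω : F), 0; 0, (ω : F) ^ 2] : R2) * (!![(ω : F), 0; 0, (ω : F) ^ 2] * !![(ω : F), 0; 0, (ω : F) ^ 2]) = 1 := by
      have hω3 := omega_cube h.hω
      ext i j
      fin_cases i <;> fin_cases j <;> simp
      · linear_combination hω3
      · linear_combination ((ω : F) ^ 3 + 1) * hω3
    have hone : (T * D * T⁻¹ * b) ^ 9 = 1 := by
      have h1 := hIm3.pow 3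
      have h2 : (dg (!![(ω : F), 0; 0, (ω : F) ^ 2] : R2) !![(ω : F), 0; 0, (ω : F) ^ 2] !![(ω : F), 0; 0, (ω : F) ^ 2]) ^ 3 = 1 := by
        rw [pow_succ, sq, mul_assoc, dg_mul, dg_mul, hδ9, dg_one]
      rw [h2, ← Units.val_pow_eq_pow_val, ← pow_mul] at h1
      exact Units.ext (h1.inj (Im.one T))
    have hσ9 : σ ^ 9 = 1 := by
      have h1 := hσ.pow 9
      have h2 : x ^ 9 = sc (c⁻¹ ^ 9) := by
        have h3 : x = (T * D * T⁻¹ * b) * sc c⁻¹ := by rw [hc, mul_assoc, ← sc_mul, mul_inv_cancel, sc_one, mul_one]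
        rw [h3, ((show Commute (sc c⁻¹ : GL (Fin 6) F) (T * D * T⁻¹ * b) from sc_comm _ _).symm).mul_pow, hone, one_mul,
          sc_pow]
      have h3 : C.L (x ^ 9) 1 := Cov.L.one_iff.2 ⟨pow_mem hx 9, _, h2⟩
      exact h1.unique h3
    have hσ3 := pow_nine hσ9
    have h1 := hσ.pow 3
    rw [hσ3, Cov.L.one_iff] at h1
    obtain ⟨-, d, hd⟩ := h1
    have h2 : (T * D * T⁻¹ * b) ^ 3 = sc (d * c ^ 3) := by
      rw [hc, ((show Commute (sc c : GL (Fin 6) F) x from sc_comm _ _).symm).mul_pow, hd, ← sc_pow, ← sc_mul]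
    rw [h2] at hIm3
    have h4 : Im T ((sc (d * c ^ 3) : GL (Fin 6) F) : M6) (((d * c ^ 3 : Fˣ) : F) • (1 : M3)) := by
      rw [Im, coe_sc, rho_smul, map_one, Matrix.smul_mul, Matrix.mul_smul, Matrix.one_mul, Matrix.mul_one]
    have h5 := congrFun (congrFun (hIm3.unique h4) 0) 0
    have h6 := congrFun (congrFun h5 0) 0
    have h7 := congrFun (congrFun h5 1) 1
    have h8 : (ω : F) = (d * c ^ 3 : Fˣ) := by
      have e : (((d * c ^ 3 : Fˣ) : F) • (1 : M3)) 0 0 0 0 = (d * c ^ 3 : Fˣ) := by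
        show ((d * c ^ 3 : Fˣ) : F) * 1 = _
        rw [mul_one]
      rw [e] at h6
      exact h6
    have h9 : (ω : F) ^ 2 = (d * c ^ 3 : Fˣ) := by
      have e : (((d * c ^ 3 : Fˣ) : F) • (1 : M3)) 0 0 1 1 = (d * c ^ 3 : Fˣ) := by
        show ((d * c ^ 3 : Fˣ) : F) * 1 = _
        rw [mul_one]
      rw [e] at h7
      exact h7
    have h10 : (ω : F) * (ω - 1) = 0 := by linear_combination h9 - h8
    rcases mul_eq_zero.1 h10 with h11 | h11
    · exact ω.ne_zero h11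
    · exact omega_ne h.hω h.h3 (sub_eq_zero.1 h11)
  rcases hmax.2 ((X (ω : F)).map (MulAut.conj T).toMonoidHom ⊓ S) (le_inf hHX hmax.1.le) inf_le_right with h1 | h1
  · exact hDH (by rw [← h1]; exact ⟨hDX, hS D (Or.inl hD)⟩)
  · have h2 : T * W * T⁻¹ ∈ (X (ω : F)).map (MulAut.conj T).toMonoidHom ⊓ S := by
      rw [h1]; exact hS W (Or.inr hW)
    obtain ⟨W', hW', hW2⟩ := h2.1
    have h3 : W' = W := by
      have h4 : T * W' * T⁻¹ = T * W * T⁻¹ := hW2
      exact mul_left_cancel (mul_right_cancel h4)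
    rw [h3] at hW'
    apply Wn_not h.hω h.h3
    intro v hv
    rw [← hW]
    exact (mem_X.1 hW') v hv

end core

end Cfsg.Agent.H890.A7
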