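import Cfsg.Agent.H913.N6Cov
import Cfsg.Agent.H890.Y3Tools

/-!
# `3.A₇` : exact relations between lifts (helper890)
-/

set_option autoImplicit false
set_option linter.unusedSectionVars false

namespace Cfsg.Agent.H890.A7

open Cfsg Cfsg.Geo Matrix Cfsg.Agent.H913.N6
open Equiv Equiv.Perm Cfsg.Agent.H890.Y3

section cover

variable {ι : Type} [Fintype ι] [DecidableEq ι] {F : Type*} [Field F] {P : Subgroup (GL ι F)}
  {T : Type*} [Group T] {C : Cov P T}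

/-- all scalars in `P` have order dividing six -/
def Z6 (P : Subgroup (GL ι F)) : Prop := ∀ c : Fˣ, sc c ∈ P → c ^ 6 = 1

theorem L_congr {x : GL ι F} {σ τ : T} (h : C.L x σ) (e : σ = τ) : C.L x τ := by
  rw [← e]; exact h

theorem eq_one_of {c : Fˣ} (h3 : c ^ 3 = 1) (h2 : c ^ 2 = 1) : c = 1 := by
  have : c ^ 3 = c ^ 2 * c := pow_succ c 2
  rw [this, h2, one_mul] at h3
  exact h3

theorem sc_commute (c : Fˣ) (x : GL ι F) : Commute (sc c) x := sc_comm c x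

/-- A lift can be multiplied by a scalar such that its cube has order prime to two: `x³ = c`, `c³ = 1`. -/
theorem exists_cube (hZ : Z6 P) {σ : T} (hσ : σ ^ 3 = 1) : ∃ x c, C.L x σ ∧ sc c ∈ P ∧ c ^ 3 = 1 ∧ x ^ 3 = sc c := by
  obtain ⟨y, hy⟩ := C.exists_lift σ
  have h1 := hy.pow 3
  rw [hσ, Cov.L.one_iff] at h1
  obtain ⟨hm, c, hc⟩ := h1
  have hcP : sc c ∈ P := hc ▸ hm
  have hc6 := hZ c hcP
  have hpow : ∀ n : ℕ, sc (c ^ n) ∈ P := fun n => by rw [sc_pow]; exact pow_mem hcP n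
  refine ⟨sc (c ^ 3) * y, c ^ 10, hy.sc_mul (hpow 3), hpow 10, ?_, ?_⟩
  · rw [← pow_mul, show 10 * 3 = 6 * 5 by norm_num, pow_mul, hc6, one_pow]
  · rw [(sc_commute _ y).mul_pow, hc, ← sc_pow, ← sc_mul, ← pow_mul, ← pow_succ]

/-- squares of lifts of conjugates of `κ`, if one lift of `κ` has square `e`, `e² = 1` -/
theorem sq_conj (hZ : Z6 P) {κ : T} {k₀ : GL ι F} (hk : C.L k₀ κ) {e : Fˣ} (hk2 : k₀ ^ 2 = sc e)
    {σ : T} (hσ : ∃ γ, γ * κ * γ⁻¹ = σ) {x : GL ι F} (hx : C.L x σ) :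
    ∃ c, sc c ∈ P ∧ c ^ 3 = 1 ∧ x ^ 2 = sc (e * c) := by
  obtain ⟨γ, hγ⟩ := hσ
  obtain ⟨y, hy⟩ := C.exists_lift γ
  obtain ⟨c, hcP, rfl⟩ := hx.exists_sc (L_congr (hk.conj hy) hγ)
  refine ⟨c ^ 2, by rw [sc_pow]; exact pow_mem hcP 2, by rw [← pow_mul]; exact hZ c hcP, ?_⟩
  rw [(sc_commute _ _).mul_pow, conj_pow, hk2, ← sc_comm e y, mul_inv_cancel_right, ← sc_pow, ← sc_mul, mul_comm]

/-- lifts with square exactly `e` -/
theorem exists_sq (hZ : Z6 P) {κ : T} {k₀ : GL ι F} (hk : C.L k₀ κ) {e : Fˣ} (hk2 : k₀ ^ 2 = sc e)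
    {σ : T} (hσ : ∃ γ, γ * κ * γ⁻¹ = σ) : ∃ x, C.L x σ ∧ x ^ 2 = sc e := by
  obtain ⟨x, hx⟩ := C.exists_lift σ
  obtain ⟨c, hcP, hc3, hc⟩ := sq_conj hZ hk hk2 hσ hx
  refine ⟨sc c * x, hx.sc_mul hcP, ?_⟩
  rw [(sc_commute _ _).mul_pow, hc, ← sc_pow, ← sc_mul, mul_left_comm, ← pow_succ, hc3, mul_one]

variable [Nonempty ι]

/-- Two lifts of commuting conjugates of `κ` with square `e`, whose product is again a conjugate of `κ`: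
`xy = e yx`. -/
theorem sq_comm (hZ : Z6 P) {κ : T} {k₀ : GL ι F} (hk : C.L k₀ κ) {e : Fˣ} (he : e ^ 2 = 1) (hk2 : k₀ ^ 2 = sc e)
    {σ τ : T} (hστ : σ * τ = τ * σ) (hγ : ∃ γ, γ * κ * γ⁻¹ = σ * τ)
    {x y : GL ι F} (hx : C.L x σ) (hy : C.L y τ) (hx2 : x ^ 2 = sc e) (hy2 : y ^ 2 = sc e) :
    x * y = sc e * (y * x) := by
  obtain ⟨c, hcP, hc⟩ := (L_congr (hx.mul hy) hστ).exists_sc (hy.mul hx)
  obtain ⟨d, -, hd3, hd⟩ := sq_conj hZ hk hk2 hγ (hx.mul hy)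
  -- `c² = 1`
  have h1 : (x * y * x⁻¹) ^ 2 = sc (c ^ 2) * y ^ 2 := by
    have : x * y * x⁻¹ = sc c * y := by rw [hc]; group
    rw [this, (sc_commute _ _).mul_pow, sc_pow]
  rw [conj_pow, hy2, ← sc_comm e x, mul_inv_cancel_right, ← sc_mul] at h1
  have h2 : c ^ 2 = 1 := by
    have := sc_inj h1
    exact (mul_eq_right.1 this.symm)
  have h3 : (x * y) ^ 2 = sc c := by
    have : (x * y) ^ 2 = sc c * (y * x) * (x * y) := by rw [← hc, sq]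
    rw [this]
    calc sc c * (y * x) * (x * y) = sc c * (y * x ^ 2 * y) := by rw [sq]; group
      _ = sc c * (sc e * y ^ 2) := by rw [hx2, ← sc_comm e y, mul_assoc, ← sq]
      _ = sc c := by rw [hy2, ← sc_mul, ← sq, he, sc_one, mul_one]
  rw [hd] at h3
  have h4 := sc_inj h3
  have h5 : d = 1 := by
    refine eq_one_of hd3 ?_
    have : d = e⁻¹ * c := by rw [← h4]; group
    rw [this, mul_pow, inv_pow, he, h2]
    simp
  rw [h5, mul_one] at h4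
  rw [hc, ← h4]

omit [Nonempty ι] in
theorem conj_three {a x : GL ι F} {c : Fˣ} (h : a * x = sc c * (x * a)) : a ^ 3 * x = sc (c ^ 3) * (x * a ^ 3) := by
  have h2 : a * (a * x) = sc (c ^ 2) * (x * (a * a)) := by
    rw [h, ← mul_assoc a (sc c), ← sc_comm c a, mul_assoc (sc c) a, ← mul_assoc a x, h, sq, sc_mul]
    simp only [mul_assoc]
  calc a ^ 3 * x = a * (a * (a * x)) := by rw [pow_succ, sq]; simp only [mul_assoc]
    _ = a * sc (c ^ 2) * (x * (a * a)) := by rw [h2, mul_assoc]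
    _ = sc (c ^ 2) * (a * x) * (a * a) := by rw [← sc_comm]; simp only [mul_assoc]
    _ = sc (c ^ 3) * (x * a ^ 3) := by
        rw [h, pow_succ c 2, sc_mul, pow_succ a 2, sq a]; simp only [mul_assoc]

theorem cube_of_comm {a x : GL ι F} {c : Fˣ} (h : a * x = sc c * (x * a)) (ha : a ^ 3 = 1) : c ^ 3 = 1 := by
  have h1 := conj_three h
  rw [ha, one_mul, mul_one] at h1
  have h2 : (1 : GL ι F) * x = sc (c ^ 3) * x := by rw [one_mul]; exact h1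
  have h3 := mul_right_cancel h2
  rw [← sc_one] at h3
  exact (sc_inj h3).symm

/-- an element of order three commutes with the lifts of order `2`, `4` -/
theorem comm_three {σ τ : T} (hστ : σ * τ = τ * σ) {a x : GL ι F} (ha : C.L a σ) (hx : C.L x τ) (ha3 : a ^ 3 = 1)
    {e : Fˣ} (hx2 : x ^ 2 = sc e) : a * x = x * a := by
  obtain ⟨c, hcP, hc⟩ := (L_congr (ha.mul hx) hστ).exists_sc (hx.mul ha)
  have e1 : a * x * a⁻¹ = sc c * x := by rw [hc]; group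
  have h1 : (a * x * a⁻¹) ^ 2 = sc (c ^ 2) * x ^ 2 := by
    rw [e1, (sc_commute _ _).mul_pow, sc_pow]
  rw [conj_pow, hx2, ← sc_comm e a, mul_inv_cancel_right, ← sc_mul] at h1
  have h2 : c ^ 2 = 1 := mul_eq_right.1 (sc_inj h1).symm
  rw [hc, eq_one_of (cube_of_comm hc ha3) h2, sc_one, one_mul]

end cover

def kk : alternatingGroup (Fin 7) := ⟨c[3, 4] * c[5, 6], mem_alternatingGroup.2 (by decide)⟩

theorem kk_sq : kk ^ 2 = 1 := by decide +kernel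
theorem kk_ne : kk ≠ 1 := by decide +kernel
theorem kk_r3 : r3 * kk = kk * r3 := by decide +kernel
theorem kk_g4 : g4 ^ 2 * kk = kk * g4 ^ 2 := by decide +kernel
theorem kk_v4 : kk * (r3' * kk * r3'⁻¹) = r3' ^ 2 * kk * (r3' ^ 2)⁻¹ := by decide +kernel
theorem kk_v4' : kk * (r3' * kk * r3'⁻¹) = (r3' * kk * r3'⁻¹) * kk := by decide +kernel
theorem kk_r6 : (kk * (g4 * kk * g4⁻¹)) ^ 3 = g4 ^ 2 := by decide +kernel
theorem g4_sq_r3 : g4 ^ 2 * r3 * (g4 ^ 2)⁻¹ = r3⁻¹ := by decide +kernel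

theorem conj_g4 : ∃ γ, γ * kk * γ⁻¹ = g4 ^ 2 :=
  ⟨⟨c[3, 0, 5] * c[4, 1, 6] * c[3, 5] * c[4, 6], mem_alternatingGroup.2 (by decide)⟩, by decide +kernel⟩

theorem conj_g4k : ∃ γ, γ * kk * γ⁻¹ = g4 ^ 2 * kk :=
  ⟨⟨c[3, 0] * c[4, 1], mem_alternatingGroup.2 (by decide)⟩, by decide +kernel⟩

theorem conj_v4 : ∃ γ, γ * kk * γ⁻¹ = kk * (r3' * kk * r3'⁻¹) := ⟨r3' ^ 2, by decide +kernel⟩

/-- The exact relations (`e = 1` for `3.A₇`, `e = -1` for `6.A₇`). -/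
structure Rel {ι : Type} [Fintype ι] [DecidableEq ι] {F : Type*} [Field F] (e ω : Fˣ) (a b k g : GL ι F) : Prop where
  ω3 : ω ^ 3 = 1
  a3 : a ^ 3 = 1
  b3 : b ^ 3 = 1
  ab : a * b = sc ω * (b * a)
  ga : g * a = b * g
  gb : g * b = a⁻¹ * g
  g4 : g ^ 4 = sc e
  k2 : k ^ 2 = sc e
  k1 : ∀ c, k ≠ sc c
  ka : k * a = a * k
  sk : g ^ 2 * k = sc e * (k * g ^ 2)
  v4 : k * (b * k * b⁻¹) = b ^ 2 * k * (b ^ 2)⁻¹
  r6 : ∃ l : Fˣ, (k * (g * k * g⁻¹)) ^ 3 = sc l * g ^ 2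

section main

variable {ι : Type} [Fintype ι] [DecidableEq ι] [Nonempty ι] {F : Type*} [Field F] {P : Subgroup (GL ι F)}
  {C : Cov P (alternatingGroup (Fin 7))}

/-- there is a lift of `kk` with square `e`, `e² = 1` -/
theorem exists_k (hZ : Z6 P) : ∃ k e, C.L k kk ∧ e ^ 2 = 1 ∧ k ^ 2 = sc e ∧ sc e ∈ P := by
  obtain ⟨y, hy⟩ := C.exists_lift kk
  have h1 := hy.pow 2
  rw [kk_sq, Cov.L.one_iff] at h1
  obtain ⟨hm, c, hc⟩ := h1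
  have hcP : sc c ∈ P := hc ▸ hm
  have hc6 := hZ c hcP
  have hpow : ∀ n : ℕ, sc (c ^ n) ∈ P := fun n => by rw [sc_pow]; exact pow_mem hcP n
  refine ⟨sc (c ^ 4) * y, c ^ 9, hy.sc_mul (hpow 4), ?_, ?_, hpow 9⟩
  · rw [← pow_mul, show 9 * 2 = 6 * 3 by norm_num, pow_mul, hc6, one_pow]
  · rw [(sc_commute _ y).mul_pow, hc, ← sc_pow, ← sc_mul, ← pow_mul, ← pow_succ]

theorem exists_rel (hZ : Z6 P) {e : Fˣ} (he : e ^ 2 = 1) {k₀ : GL ι F} (hk₀ : C.L k₀ kk) (hk₀2 : k₀ ^ 2 = sc e) :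
    ∃ (ω : Fˣ) (a b k g : GL ι F), Rel e ω a b k g ∧ C.L a r3 ∧ C.L b r3' ∧ C.L k kk ∧ C.L g g4 ∧ sc ω ∈ P := by
  -- `g`
  obtain ⟨g, hg, hg4⟩ : ∃ g, C.L g g4 ∧ g ^ 4 = sc e := by
    obtain ⟨y, hy⟩ := C.exists_lift g4
    obtain ⟨c, hcP, hc3, hc⟩ := sq_conj hZ hk₀ hk₀2 conj_g4 (hy.pow 2)
    refine ⟨sc (c ^ 2) * y, hy.sc_mul (by rw [sc_pow]; exact pow_mem hcP 2), ?_⟩
    rw [← pow_mul] at hc
    rw [(sc_commute _ y).mul_pow, hc, ← sc_pow, ← sc_mul, mul_left_comm, ← pow_mul, ← pow_succ,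
      show 2 * 4 + 1 = 3 * 3 by norm_num, pow_mul, hc3, one_pow, mul_one]
  have hs : C.L (g ^ 2) (g4 ^ 2) := hg.pow 2
  have hs2 : (g ^ 2) ^ 2 = sc e := by rw [← pow_mul]; exact hg4
  -- `a`
  obtain ⟨a, ha, hsa, ha3⟩ : ∃ a, C.L a r3 ∧ g ^ 2 * a * (g ^ 2)⁻¹ = a⁻¹ ∧ a ^ 3 = 1 := by
    obtain ⟨a₀, c, ha₀, hcP, hc3, hc⟩ := exists_cube (C := C) hZ r3_pow
    obtain ⟨f, hfP, hf⟩ := (L_congr (ha₀.conj hs) g4_sq_r3).exists_sc ha₀.inv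
    have h1 : (sc c : GL ι F) = sc (f ^ 3 * c⁻¹) := by
      have h2 : (g ^ 2 * a₀ * (g ^ 2)⁻¹) ^ 3 = sc c := by
        rw [conj_pow, hc, ← sc_comm, mul_inv_cancel_right]
      rw [← h2, hf, (sc_commute _ _).mul_pow, inv_pow, hc, sc_mul, sc_pow, sc_inv]
    have h2 : f ^ 3 = c ^ 2 := by
      have := sc_inj h1
      rw [sq]
      nth_rewrite 1 [this]
      group
    have hf3 : f ^ 3 = 1 := by
      have h3 : (f ^ 3) ^ 3 = 1 := by rw [h2, ← pow_mul, mul_comm, pow_mul, hc3, one_pow]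
      have h4 : (f ^ 3) ^ 2 = 1 := by rw [← pow_mul]; exact hZ f hfP
      exact eq_one_of h3 h4
    have hc1 : c = 1 := eq_one_of hc3 (by rw [← h2, hf3])
    have hff : f * f = f⁻¹ := by rw [eq_inv_iff_mul_eq_one, ← sq, ← pow_succ]; exact hf3
    refine ⟨sc f * a₀, ha₀.sc_mul hfP, ?_, ?_⟩
    · have e1 : g ^ 2 * (sc f * a₀) * (g ^ 2)⁻¹ = sc f * (g ^ 2 * a₀ * (g ^ 2)⁻¹) := by
        rw [← mul_assoc (g ^ 2), ← sc_comm f (g ^ 2)]; group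
      rw [e1, hf, _root_.mul_inv_rev, ← sc_inv, ← sc_comm, ← mul_assoc, ← sc_mul, hff]
    · rw [(sc_commute _ _).mul_pow, hc, ← sc_pow, hf3, hc1, sc_one, one_mul]
  have hb : C.L (g * a * g⁻¹) r3' := L_congr (ha.conj hg) g4_r3
  obtain ⟨b, hbe⟩ : ∃ b, b = g * a * g⁻¹ := ⟨_, rfl⟩
  rw [← hbe] at hb
  have hb3 : b ^ 3 = 1 := by rw [hbe, conj_pow, ha3, mul_one, mul_inv_cancel]
  have hga : g * a = b * g := by rw [hbe]; group
  have hgb : g * b = a⁻¹ * g := by rw [hbe, ← hsa, sq]; group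
  obtain ⟨ω, hωm, hω⟩ := (L_congr (ha.mul hb) r3_comm).exists_sc (hb.mul ha)
  have hω3 := cube_of_comm hω ha3
  -- `k`
  have hkk : ∀ k, C.L k kk → k ^ 2 = sc e → ∃ c, sc c ∈ P ∧ c ^ 2 = 1 ∧
      k * (b * k * b⁻¹) = sc c * (b ^ 2 * k * (b ^ 2)⁻¹) := by
    intro k hk hk2
    obtain ⟨c, hcP, hc⟩ := (L_congr (hk.mul (hk.conj hb)) kk_v4).exists_sc (hk.conj (hb.pow 2))
    refine ⟨c, hcP, ?_, hc⟩
    have hK2 : (b * k * b⁻¹) ^ 2 = sc e := by rw [conj_pow, hk2, ← sc_comm, mul_inv_cancel_right]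
    have h1 := sq_comm hZ hk₀ he hk₀2 kk_v4' conj_v4 hk (hk.conj hb) hk2 hK2
    have h2 : (k * (b * k * b⁻¹)) ^ 2 = sc e := by
      calc (k * (b * k * b⁻¹)) ^ 2 = (k * (b * k * b⁻¹)) * (k * (b * k * b⁻¹)) := sq _
        _ = (sc e * ((b * k * b⁻¹) * k)) * (k * (b * k * b⁻¹)) := by rw [← h1]
        _ = sc e * ((b * k * b⁻¹) * k ^ 2 * (b * k * b⁻¹)) := by rw [sq]; group
        _ = sc e * (sc e * (b * k * b⁻¹) ^ 2) := by rw [hk2, ← sc_comm, mul_assoc (sc e) (b * k * b⁻¹), ← sq (b * k * b⁻¹)]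
        _ = sc e := by rw [hK2, ← sc_mul, ← sc_mul, ← mul_assoc, ← sq, he, one_mul]
    rw [hc, (sc_commute _ _).mul_pow, conj_pow, hk2, ← sc_comm e (b ^ 2), mul_inv_cancel_right, ← sc_pow, ← sc_mul] at h2
    exact mul_eq_right.1 (sc_inj h2)
  obtain ⟨k, hk, hk2, hv4⟩ : ∃ k, C.L k kk ∧ k ^ 2 = sc e ∧ k * (b * k * b⁻¹) = b ^ 2 * k * (b ^ 2)⁻¹ := by
    obtain ⟨c, hcP, hc2, hc⟩ := hkk k₀ hk₀ hk₀2
    refine ⟨sc c * k₀, hk₀.sc_mul hcP, ?_, ?_⟩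
    · rw [(sc_commute _ _).mul_pow, hk₀2, ← sc_pow, hc2, sc_one, one_mul]
    · have e1 : b * (sc c * k₀) * b⁻¹ = sc c * (b * k₀ * b⁻¹) := by
        rw [← mul_assoc b, ← sc_comm c b]; group
      have e2 : b ^ 2 * (sc c * k₀) * (b ^ 2)⁻¹ = sc c * (b ^ 2 * k₀ * (b ^ 2)⁻¹) := by
        rw [← mul_assoc (b ^ 2), ← sc_comm c (b ^ 2)]; group
      have e3 : sc c * k₀ * (sc c * (b * k₀ * b⁻¹)) = sc (c ^ 2) * (k₀ * (b * k₀ * b⁻¹)) := by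
        rw [mul_assoc, ← mul_assoc k₀, ← sc_comm c k₀, sq, sc_mul]; group
      rw [e1, e2, e3, hc2, sc_one, one_mul, hc]
  refine ⟨ω, a, b, k, g, ⟨hω3, ha3, hb3, hω, hga, hgb, hg4, hk2, ?_, ?_, ?_, hv4, ?_⟩, ha, hb, hk, hg, hωm⟩
  · rintro c rfl
    exact kk_ne (hk.unique (Cov.L.of_sc hk.mem))
  · exact (comm_three kk_r3 ha hk ha3 hk2).symm
  · exact sq_comm hZ hk₀ he hk₀2 kk_g4 conj_g4k hs hk hs2 hk2
  · obtain ⟨l, -, hl⟩ := (L_congr ((hk.mul (hk.conj hg)).pow 3) kk_r6).exists_sc hs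
    exact ⟨l, hl⟩

end main

end Cfsg.Agent.H890.A7
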