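import Cfsg.Agent.H890.A7.Two
import Cfsg.Agent.H890.A7.Rel

/-!
# `3.A₇` : normal form in dimension six (helper890)
-/

set_option autoImplicit false
set_option linter.unusedSectionVars false

namespace Cfsg.Agent.H890.A7

open Matrix Cfsg.Agent.H913.N6
open scoped Kronecker

variable {F : Type*} [Field F]

local notation "R2" => Matrix (Fin 2) (Fin 2) F
local notation "M3" => Matrix (Fin 3) (Fin 3) (Matrix (Fin 2) (Fin 2) F)
local notation "M6" => Matrix (Fin 6) (Fin 6) F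

theorem omega_sum {ω : F} (h3 : ω ^ 3 = 1) (h1 : ω ≠ 1) : ω ^ 2 + ω + 1 = 0 := by
  have : (ω - 1) * (ω ^ 2 + ω + 1) = 0 := by linear_combination h3
  exact (mul_eq_zero.1 this).resolve_left (sub_ne_zero.2 h1)

theorem three_ne {ω : F} (h3 : ω ^ 3 = 1) (h1 : ω ≠ 1) : (3 : F) ≠ 0 := by
  intro h
  have : (ω - 1) ^ 2 = 0 := by linear_combination omega_sum h3 h1 - ω * h
  exact h1 (sub_eq_zero.1 (pow_eq_zero_iff two_ne_zero |>.1 this))

theorem rho_smul (c : F) (M : M3) : rho (c • M) = c • rho M := by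
  ext i j
  rfl

/-- the DFT matrix -/
def Wm (ω : F) : Matrix (Fin 3) (Fin 3) F := Matrix.of fun i j => ω ^ (2 * (i : ℕ) * (j : ℕ))

theorem rho_gm (ω : F) (x : R2) : rho (gm ω x) =
    Matrix.reindex (finProdFinEquiv : Fin 3 × Fin 2 ≃ Fin 6) (finProdFinEquiv : Fin 3 × Fin 2 ≃ Fin 6) (Wm ω ⊗ₖ x) := by
  ext i j
  rfl

theorem det_Wm {ω : F} (hω : ω ^ 2 + ω + 1 = 0) : (Wm ω).det ^ 2 = -27 := by
  have hω3 := omega_cube hω
  have h1 : (Wm ω).det = 3 * ω - 3 * ω ^ 2 := by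
    rw [Matrix.det_fin_three]
    have e : ∀ i j : Fin 3, Wm ω i j = ω ^ (2 * (i : ℕ) * (j : ℕ)) := fun i j => rfl
    rw [e, e, e, e, e, e, e, e, e]
    simp only [Fin.val_zero, Fin.val_one, Fin.val_two, mul_zero, zero_mul, pow_zero, mul_one, one_mul]
    linear_combination ((ω ^ 7 + ω ^ 4 + ω) - 2 * (ω ^ 5 + ω ^ 2) + 2 * ω) * hω3
  rw [h1]
  linear_combination (9 * ω - 18) * hω3 + 9 * hω

theorem det_rho_gm {ω : F} (hω : ω ^ 2 + ω + 1 = 0) (x : R2) : (rho (gm ω x)).det = (-3 * x.det) ^ 3 := by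
  rw [rho_gm, Matrix.reindex_apply, Matrix.det_submatrix_equiv_self, Matrix.det_kronecker, Fintype.card_fin,
    Fintype.card_fin, det_Wm hω]
  ring

/-- `X T = T ρ(X')` -/
def Im (T : GL (Fin 6) F) (X : M6) (X' : M3) : Prop := X * (T : M6) = (T : M6) * rho X'

theorem Im.exists (T : GL (Fin 6) F) (X : M6) : ∃ X', Im T X X' := by
  refine ⟨rho.symm (((T⁻¹ : GL (Fin 6) F) : M6) * X * (T : M6)), ?_⟩
  rw [Im, RingEquiv.apply_symm_apply, ← mul_assoc, ← mul_assoc, ← Units.val_mul, mul_inv_cancel, Units.val_one, one_mul]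

theorem Im.mul {T : GL (Fin 6) F} {X Y : M6} {X' Y' : M3} (h : Im T X X') (h' : Im T Y Y') :
    Im T (X * Y) (X' * Y') := by
  rw [Im, map_mul, mul_assoc, h', ← mul_assoc, h, mul_assoc]

theorem Im.one (T : GL (Fin 6) F) : Im T 1 1 := by rw [Im, map_one, one_mul, mul_one]

theorem Im.pow {T : GL (Fin 6) F} {X : M6} {X' : M3} (h : Im T X X') (n : ℕ) : Im T (X ^ n) (X' ^ n) := by
  induction n with
  | zero => rw [pow_zero, pow_zero]; exact Im.one T
  | succ n ih => rw [pow_succ, pow_succ]; exact ih.mul h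

theorem Im.unique {T : GL (Fin 6) F} {X : M6} {X' Y' : M3} (h : Im T X X') (h' : Im T X Y') : X' = Y' := by
  have h1 : (T : M6) * rho X' = (T : M6) * rho Y' := h.symm.trans h'
  have h2 := congrArg (fun Z => ((T⁻¹ : GL (Fin 6) F) : M6) * Z) h1
  simp only [← mul_assoc, ← Units.val_mul, inv_mul_cancel, Units.val_one, one_mul] at h2
  exact rho.injective h2

theorem Im.inj {T : GL (Fin 6) F} {X Y : M6} {X' : M3} (h : Im T X X') (h' : Im T Y X') : X = Y := by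
  have h1 : X * (T : M6) = Y * (T : M6) := h.trans h'.symm
  have h2 := congrArg (fun Z => Z * ((T⁻¹ : GL (Fin 6) F) : M6)) h1
  simp only [mul_assoc, ← Units.val_mul, mul_inv_cancel, Units.val_one, mul_one] at h2
  exact h2

theorem Im.exists' (T : GL (Fin 6) F) (X' : M3) : ∃ X, Im T X X' := by
  refine ⟨(T : M6) * rho X' * ((T⁻¹ : GL (Fin 6) F) : M6), ?_⟩
  rw [Im, mul_assoc, ← Units.val_mul, inv_mul_cancel, Units.val_one, mul_one]

theorem Im.det {T : GL (Fin 6) F} {X : M6} {X' : M3} (h : Im T X X') : X.det = (rho X').det := by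
  have h1 := congrArg Matrix.det h
  rw [Matrix.det_mul, Matrix.det_mul, mul_comm] at h1
  have h2 : (T : M6).det ≠ 0 := by
    rw [← Matrix.GeneralLinearGroup.val_det_apply]
    exact Units.ne_zero _
  exact mul_left_cancel₀ h2 h1

/-- the standard `x` and `δ` -/
def x0 (ω : F) : R2 := (ω - ω ^ 2)⁻¹ • !![0, -1; 1, 0]
def d0 (ω : F) : R2 := !![0, ω; ω ^ 2, 0]

theorem theta_sq {ω : F} (hω : ω ^ 2 + ω + 1 = 0) : (ω - ω ^ 2) * (ω - ω ^ 2) = -3 := by
  linear_combination (ω ^ 2 - 3 * ω + 3) * hω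

theorem theta_ne {ω : F} (hω : ω ^ 2 + ω + 1 = 0) (h3 : (3 : F) ≠ 0) : ω - ω ^ 2 ≠ 0 := by
  intro h
  apply h3
  linear_combination theta_sq hω - (ω - ω ^ 2) * h

theorem x0_sq {ω : F} (hω : ω ^ 2 + ω + 1 = 0) (h3 : (3 : F) ≠ 0) : (3 : F) • (x0 ω * x0 ω) = 1 := by
  have h1 := theta_ne hω h3
  have h2 : (3 : F) * ((ω - ω ^ 2)⁻¹ * (ω - ω ^ 2)⁻¹) = -1 := by
    rw [← mul_inv, theta_sq hω]
    field_simp
  have h3 : (!![0, -1; 1, 0] : R2) * !![0, -1; 1, 0] = -1 := by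
    ext i j
    fin_cases i <;> fin_cases j <;> simp
  rw [x0, smul_mul_smul_comm, smul_smul, h2, h3]
  simp

theorem d0_sq {ω : F} (hω : ω ^ 2 + ω + 1 = 0) : d0 ω * d0 ω = 1 := by
  have hω3 := omega_cube hω
  ext i j
  fin_cases i <;> fin_cases j <;> simp [d0]
  · linear_combination hω3
  · linear_combination hω3

theorem x0_d0 {ω : F} (hω : ω ^ 2 + ω + 1 = 0) (h3 : (3 : F) ≠ 0) : x0 ω * d0 ω + d0 ω * x0 ω = 1 := by
  have h1 := theta_ne hω h3
  have h2 : (!![0, -1; 1, 0] : R2) * d0 ω + d0 ω * !![0, -1; 1, 0] = (ω - ω ^ 2) • 1 := by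
    ext i j
    fin_cases i <;> fin_cases j <;> simp [d0] <;> ring
  rw [x0, smul_mul_assoc, mul_smul_comm, ← smul_add, h2, smul_smul, inv_mul_cancel₀ h1, one_smul]

theorem d0_not_sc {ω : F} (hω : ω ^ 2 + ω + 1 = 0) : ¬ IsSc (d0 ω) := by
  rintro ⟨c, hc⟩
  have := congrFun (congrFun hc 0) 1
  simp [d0] at this
  exact omega_ne_zero hω this

theorem dg_mul (x y z x' y' z' : R2) : dg x y z * dg x' y' z' = dg (x * x') (y * y') (z * z') := by
  obtain ⟨X00, X01, X02, X10, X11, X12, X20, X21, X22⟩ := dg_entries x y z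
  obtain ⟨Y00, Y01, Y02, Y10, Y11, Y12, Y20, Y21, Y22⟩ := dg_entries x' y' z'
  obtain ⟨Z00, Z01, Z02, Z10, Z11, Z12, Z20, Z21, Z22⟩ := dg_entries (x * x') (y * y') (z * z')
  apply ext3 <;> simp only [mul3, X00, X01, X02, X10, X11, X12, X20, X21, X22, Y00, Y01, Y02, Y10, Y11, Y12, Y20, Y21,
    Y22, Z00, Z01, Z02, Z10, Z11, Z12, Z20, Z21, Z22, mul_zero, zero_mul, add_zero, zero_add]

theorem dg_one : dg (1 : R2) 1 1 = 1 := by apply ext3 <;> rfl

theorem dg_a3 (ω : F) (X : R2) : dg X X X * a3 ω = a3 ω * dg X X X := by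
  obtain ⟨X00, X01, X02, X10, X11, X12, X20, X21, X22⟩ := dg_entries X X X
  ext1 i j
  rw [mul_a3, a3_mul]
  rcases fin3 i with rfl | rfl | rfl <;> rcases fin3 j with rfl | rfl | rfl <;>
    simp only [X00, X01, X02, X10, X11, X12, X20, X21, X22, smul_zero]

theorem dg_b3 (X : R2) : dg X X X * b3 = b3 * dg X X X := by
  ext1 i j
  rw [mul_b3]
  have e2 := b3_mul (dg X X X) (i + 2) j
  rw [show i + 2 + 1 = i by rcases fin3 i with rfl | rfl | rfl <;> rfl] at e2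
  rw [e2]
  rcases fin3 i with rfl | rfl | rfl <;> rcases fin3 j with rfl | rfl | rfl <;> rfl

theorem gm_dg {ω : F} (hω : ω ^ 2 + ω + 1 = 0) {x τ x' : R2} {κ : F} (h : x * τ = κ • (τ * x')) :
    gm ω x * dg τ τ τ = dg τ τ τ * (κ • gm ω x') := by
  obtain ⟨X00, X01, X02, X10, X11, X12, X20, X21, X22⟩ := dg_entries τ τ τ
  obtain ⟨a00, a01, a02, a10, a11, a12, a20, a21, a22⟩ := gm_entries hω x
  obtain ⟨b00, b01, b02, b10, b11, b12, b20, b21, b22⟩ := gm_entries hω x'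
  have e1 : ∀ c : F, (κ * c) • (τ * x') = (c * κ) • (τ * x') := fun c => by rw [mul_comm]
  apply ext3 <;> simp only [mul3, Matrix.smul_apply, a00, a01, a02, a10, a11, a12, a20, a21, a22, b00, b01, b02, b10,
    b11, b12, b20, b21, b22, X00, X01, X02, X10, X11, X12, X20, X21, X22, h, mul_zero, zero_mul, add_zero,
    zero_add, mul_smul_comm, smul_mul_assoc, smul_smul, smul_zero, e1]

/-- `diag(τ, τ, τ)` as an element of `GL₆` -/
theorem exists_dg (τ : GL (Fin 2) F) : ∃ D : GL (Fin 6) F, (D : M6) = rho (dg (τ : R2) τ τ) := by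
  have h1 : (τ : R2) * ((τ⁻¹ : GL (Fin 2) F) : R2) = 1 := by rw [← Units.val_mul, mul_inv_cancel, Units.val_one]
  have h2 : ((τ⁻¹ : GL (Fin 2) F) : R2) * (τ : R2) = 1 := by rw [← Units.val_mul, inv_mul_cancel, Units.val_one]
  refine ⟨⟨rho (dg (τ : R2) τ τ), rho (dg ((τ⁻¹ : GL (Fin 2) F) : R2) (τ⁻¹ : GL (Fin 2) F) (τ⁻¹ : GL (Fin 2) F)), ?_, ?_⟩, rfl⟩
  · rw [← map_mul, dg_mul, h1, dg_one, map_one]
  · rw [← map_mul, dg_mul, h2, dg_one, map_one]

theorem dg_comm {T : GL (Fin 6) F} {X : M6} {X' : M3} {τ : R2} {D : GL (Fin 6) F} (h : Im T X X')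
    (hD : (D : M6) = rho (dg τ τ τ)) {Y' : M3} (h' : X' * dg τ τ τ = dg τ τ τ * Y') : Im (T * D) X Y' := by
  rw [Im, Units.val_mul, ← mul_assoc, h, mul_assoc, hD, ← map_mul, h', map_mul, mul_assoc]

theorem Im.eq_of {T : GL (Fin 6) F} {X Y : M6} {X' Y' : M3} (h : Im T X X') (h' : Im T Y Y') (e : X = Y) :
    X' = Y' := by
  subst e
  exact h.unique h'

theorem Im.smul {T : GL (Fin 6) F} {X : M6} {X' : M3} (h : Im T X X') (c : F) : Im T (c • X) (c • X') := by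
  rw [Im, rho_smul, Matrix.smul_mul, Matrix.mul_smul, h]

/-- the relations as matrices -/
theorem Rel.mat {e ω : Fˣ} {a b k g : GL (Fin 6) F} (h : Rel e ω a b k g) :
    (g : M6) * a = b * g ∧ (a : M6) * (g * b) = g ∧ (k : M6) * k = (e : F) • 1 ∧ ((g : M6) * g) * (g * g) = (e : F) • 1 ∧
      (k : M6) * a = a * k ∧ ((g : M6) * g) * k = (e : F) • (k * (g * g)) ∧ (k : M6) * b * k * b = b * (b * k) ∧
      ∃ l : F, ((k : M6) * (g * k * (g * (g * g)))) ^ 3 = l • (g * g) := by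
  refine ⟨congrArg (fun g : GL (Fin 6) F => (g : M6)) h.ga, ?_, ?_, ?_,
    congrArg (fun g : GL (Fin 6) F => (g : M6)) h.ka, ?_, ?_, ?_⟩
  · have h1 : a * (g * b) = g := by rw [h.gb, mul_inv_cancel_left]
    exact congrArg (fun g : GL (Fin 6) F => (g : M6)) h1
  · have h1 : k * k = sc e := by rw [← sq, h.k2]
    have h2 := congrArg (fun g : GL (Fin 6) F => (g : M6)) h1
    simp only [Units.val_mul, coe_sc] at h2
    exact h2
  · have h1 : (g * g) * (g * g) = sc e := by rw [← sq, ← sq, ← pow_mul, h.g4]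
    have h2 := congrArg (fun g : GL (Fin 6) F => (g : M6)) h1
    simp only [Units.val_mul, coe_sc] at h2
    exact h2
  · have h1 : (g * g) * k = sc e * (k * (g * g)) := by rw [← sq, h.sk]
    have h2 := congrArg (fun g : GL (Fin 6) F => (g : M6)) h1
    simp only [Units.val_mul, coe_sc, Matrix.smul_mul, Matrix.one_mul] at h2
    exact h2
  · have h1 : k * b * k * b = b * (b * k) := by
      have h2 := congrArg (fun z => z * b ^ 2) h.v4
      simp only [inv_mul_cancel_right] at h2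
      calc k * b * k * b = k * (b * k * b⁻¹) * b ^ 2 := by group
        _ = b ^ 2 * k := h2
        _ = b * (b * k) := by rw [sq, mul_assoc]
    exact congrArg (fun g : GL (Fin 6) F => (g : M6)) h1
  · obtain ⟨l, hl⟩ := h.r6
    have h1 : (k * (g * k * (g * (g * g)))) ^ 3 = sc (e ^ 3 * l) * (g * g) := by
      have h2 : g * (g * g) = sc e * g⁻¹ := by
        rw [← h.g4, pow_succ, pow_succ, sq, mul_assoc g g g, mul_inv_cancel_right]
      rw [h2]
      have h3 : k * (g * k * (sc e * g⁻¹)) = sc e * (k * (g * k * g⁻¹)) := by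
        rw [← mul_assoc (g * k), ← sc_comm e (g * k), mul_assoc (sc e), ← mul_assoc k (sc e), ← sc_comm e k]
        simp only [mul_assoc]
      rw [h3, (sc_commute _ _).mul_pow, hl, ← sc_pow, sc_mul, sq g, mul_assoc]
    refine ⟨((e ^ 3 * l : Fˣ) : F), ?_⟩
    have h2 := congrArg (fun g : GL (Fin 6) F => (g : M6)) h1
    simp only [Units.val_pow_eq_pow_val, Units.val_mul, coe_sc, Matrix.smul_mul, Matrix.one_mul] at h2
    simp only [Units.val_pow_eq_pow_val, Units.val_mul]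
    exact h2

theorem first_form {ω : Fˣ} {a b k g : GL (Fin 6) F} (h : Rel 1 ω a b k g) (hω : (ω : F) ^ 2 + ω + 1 = 0)
    (h3 : (3 : F) ≠ 0) (hdet : (g : M6).det = 1)
    (hcent : ∀ X : M6, X * a = a * X → X * b = b * X → X * k = k * X → X * g = g * X → ∃ c : F, X = c • 1) :
    ∃ (T : GL (Fin 6) F) (x δ : R2) (κ : F), Im T a (a3 (ω : F)) ∧ Im T b b3 ∧ Im T k (dg 1 δ δ) ∧
      Im T g (gm (ω : F) x) ∧ (3 : F) • (x * x) = 1 ∧ δ * δ = 1 ∧ ¬ IsSc δ ∧ x * δ + δ * x = κ • 1 ∧ κ ^ 2 = 1 := by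
  obtain ⟨T, hTa, hTb⟩ := exists_block (A := (a : M6)) (B := (b : M6)) (ω := (ω : F))
    (by rw [← Units.val_pow_eq_pow_val, h.a3]; rfl) (by rw [← Units.val_pow_eq_pow_val, h.b3]; rfl)
    (by
      have h1 := congrArg (fun g : GL (Fin 6) F => (g : M6)) h.ab
      simp only [Units.val_mul, coe_sc, Matrix.smul_mul, Matrix.one_mul] at h1
      exact h1) hω h3
  have hA : Im T a (a3 (ω : F)) := hTa
  have hB : Im T b b3 := hTb
  obtain ⟨k', hK⟩ := Im.exists T k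
  obtain ⟨g', hG⟩ := Im.exists T g
  obtain ⟨ga', gb', k2', g4', ka', sk', v4', l, r6'⟩ := h.mat
  rw [Units.val_one, one_smul] at k2' g4' sk'
  have e1 := (hK.mul hA).eq_of (hA.mul hK) ka'
  have e2 := (hG.mul hA).eq_of (hB.mul hG) ga'
  have e3 := (hA.mul (hG.mul hB)).eq_of hG gb'
  have e4 := (hK.mul hK).eq_of (Im.one T) k2'
  have e5 := ((hG.mul hG).mul (hG.mul hG)).eq_of (Im.one T) g4'
  have e6 := ((hG.mul hG).mul hK).eq_of (hK.mul (hG.mul hG)) sk'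
  have e7 := (((hK.mul hB).mul hK).mul hB).eq_of (hB.mul (hB.mul hK)) v4'
  have e8 := ((hK.mul ((hG.mul hK).mul (hG.mul (hG.mul hG)))).pow 3).eq_of ((hG.mul hG).smul l) r6'
  obtain ⟨x, δ, κ, hk, hg, hx, hδ, hδsc, hxδ, hκ⟩ := stage_three hω h3 e1 e2 e3 e4 e5 e6 e7 e8
    (by
      intro x hx
      rw [← det_rho_gm hω, ← hx, ← hG.det, hdet])
    (by
      intro X h1 h2
      obtain ⟨Y, hY⟩ := Im.exists' T (dg X X X)
      obtain ⟨c, hc⟩ := hcent Y
        ((hY.mul hA).inj (by rw [dg_a3]; exact hA.mul hY))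
        ((hY.mul hB).inj (by rw [dg_b3]; exact hB.mul hY))
        ((hY.mul hK).inj (by rw [h1]; exact hK.mul hY)) ((hY.mul hG).inj (by rw [h2]; exact hG.mul hY))
      refine ⟨c, ?_⟩
      have h4 : Im T Y (c • (1 : M3)) := by
        rw [Im, hc, rho_smul, map_one, Matrix.smul_mul, Matrix.mul_smul, Matrix.one_mul, Matrix.mul_one]
      have h5 := congrFun (congrFun (hY.unique h4) 0) 0
      exact h5)
  rw [hk] at hK
  rw [hg] at hG
  exact ⟨T, x, δ, κ, hA, hB, hK, hG, hx, hδ, hδsc, hxδ, hκ⟩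

theorem pair_conj {S S₀ : GL (Fin 2) F} {y y₀ N : R2} (h1 : y * (S : R2) = S * N) (h2 : y₀ * (S₀ : R2) = S₀ * N) :
    y * ((S * S₀⁻¹ : GL (Fin 2) F) : R2) = ((S * S₀⁻¹ : GL (Fin 2) F) : R2) * y₀ := by
  have h4 : y₀ = S₀ * N * ((S₀⁻¹ : GL (Fin 2) F) : R2) := by
    rw [← h2, mul_assoc, ← Units.val_mul, mul_inv_cancel, Units.val_one, mul_one]
  rw [h4, Units.val_mul, ← mul_assoc, h1]
  have h5 : ((S₀⁻¹ : GL (Fin 2) F) : R2) * (S₀ : R2) = 1 := by
    rw [← Units.val_mul, inv_mul_cancel, Units.val_one]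
  calc _ = (S : R2) * 1 * N * ((S₀⁻¹ : GL (Fin 2) F) : R2) := by rw [mul_one]
    _ = _ := by rw [← h5]; simp only [mul_assoc]

/-- **Normal form.** -/
theorem normal_form {ω : Fˣ} {a b k g : GL (Fin 6) F} (h : Rel 1 ω a b k g) (hω : (ω : F) ^ 2 + ω + 1 = 0)
    (h3 : (3 : F) ≠ 0) (hdet : (g : M6).det = 1)
    (hcent : ∀ X : M6, X * a = a * X → X * b = b * X → X * k = k * X → X * g = g * X → ∃ c : F, X = c • 1) :
    ∃ (T : GL (Fin 6) F) (ε : F), ε ^ 2 = 1 ∧ Im T a (a3 (ω : F)) ∧ Im T b b3 ∧ Im T k (dg 1 (d0 (ω : F)) (d0 (ω : F))) ∧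
      Im T g (ε • gm (ω : F) (x0 (ω : F))) := by
  obtain ⟨T, x, δ, κ, hA, hB, hK, hG, hx, hδ, hδsc, hxδ, hκ⟩ := first_form h hω h3 hdet hcent
  obtain ⟨S, hS1, hS2⟩ := sim_pair (x := κ • x) (δ := δ) h3
    (by rw [smul_mul_smul_comm, ← sq, hκ, one_smul, hx]) hδ hδsc
    (by rw [smul_mul_assoc, mul_smul_comm, ← smul_add, hxδ, smul_smul, ← sq, hκ, one_smul])
  obtain ⟨S₀, hS1', hS2'⟩ := sim_pair h3 (x0_sq hω h3) (d0_sq hω) (d0_not_sc hω) (x0_d0 hω h3)
  obtain ⟨D, hD⟩ := exists_dg (S * S₀⁻¹)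
  have hx' := pair_conj hS1 hS1'
  have hδ' := pair_conj hS2 hS2'
  generalize ((S * S₀⁻¹ : GL (Fin 2) F) : R2) = τ at hx' hδ' hD
  refine ⟨T * D, κ, hκ, dg_comm hA hD (dg_a3 _ _).symm, dg_comm hB hD (dg_b3 _).symm, dg_comm hK hD ?_,
    dg_comm hG hD (gm_dg hω ?_)⟩
  · rw [dg_mul, dg_mul, hδ', one_mul, mul_one]
  · rw [← hx', smul_mul_assoc, smul_smul, ← sq, hκ, one_smul]

end Cfsg.Agent.H890.A7
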