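import Cfsg.Agent.H890.A7.SixRel
import Cfsg.Agent.H890.A7.Final

/-!
# `6.A₇` in dimension six : the field (helper890)

`Fr P (p²)`; `Fr P p` for `p = 1, 7 mod 24`; `Cj P p` for `p = 17, 23 mod 24`; an element with trace `±√2`.
-/

set_option autoImplicit false
set_option linter.unusedSectionVars false

namespace Cfsg.Agent.H890.A7

open Cfsg Cfsg.Geo Matrix Cfsg.Agent.H913.N6 Cfsg.Agent.H890.Y3
open Cfsg.Agent.H915.LD (Core Soc toSoc tr SD Fr Cj FixU core_of_residual tr_conj)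

variable {F : Type*} [Field F] {P : Subgroup (GL (Fin 6) F)} {C : Cov P (alternatingGroup (Fin 7))}

local notation "R2" => Matrix (Fin 2) (Fin 2) F
local notation "M3" => Matrix (Fin 3) (Fin 3) (Matrix (Fin 2) (Fin 2) F)
local notation "M6" => Matrix (Fin 6) (Fin 6) F

/-! ### semilinear invariance -/

theorem Im.coe_conj {T x : GL (Fin 6) F} {X' : M3} (h : Im T x X') : ((T⁻¹ * x * T : GL (Fin 6) F) : M6) = rho X' := by
  rw [mul_assoc, Units.val_mul, Units.val_mul, h, ← mul_assoc, ← Units.val_mul, inv_mul_cancel, Units.val_one, one_mul]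

theorem conj_sc (T : GL (Fin 6) F) (c : Fˣ) : T⁻¹ * sc c * T = sc c := by
  rw [← sc_comm c T⁻¹, inv_mul_cancel_right]

theorem tr_conj' (T x : GL (Fin 6) F) : tr (T⁻¹ * x * T) = tr x := by
  have := tr_conj T⁻¹ x
  rwa [inv_inv] at this

/-- all traces are fixed by `φ` -/
theorem tr_fix (φ : F →+* F) {a b k g T : GL (Fin 6) F} {A' B' K' G' : M3} (La : C.L a r3) (Lb : C.L b r3')
    (Lk : C.L k kk) (Lg : C.L g g4) (IA : Im T a A') (IB : Im T b B') (IK : Im T k K') (IG : Im T g G')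
    (hsc : ∀ c : Fˣ, sc c ∈ P → φ c = c) (hA : (rho A').map φ = rho A') (hB : (rho B').map φ = rho B')
    (hK : (rho K').map φ = rho K') (hG : (rho G').map φ = rho G') {x : GL (Fin 6) F} (hx : x ∈ P) :
    φ (tr x) = tr x := by
  let Y : Subgroup (GL (Fin 6) F) := MonoidHom.eqLocus
    ((Matrix.GeneralLinearGroup.map φ).comp (MulAut.conj T⁻¹).toMonoidHom) (MulAut.conj T⁻¹).toMonoidHom
  have hY : ∀ x, x ∈ Y ↔ ((T⁻¹ * x * T : GL (Fin 6) F) : M6).map φ = ((T⁻¹ * x * T : GL (Fin 6) F) : M6) := by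
    intro x
    constructor
    · intro h
      have h1 : Matrix.GeneralLinearGroup.map φ (T⁻¹ * x * T⁻¹⁻¹) = T⁻¹ * x * T⁻¹⁻¹ := h
      rw [inv_inv] at h1
      exact congrArg (fun z : GL (Fin 6) F => (z : M6)) h1
    · intro h
      show Matrix.GeneralLinearGroup.map φ (T⁻¹ * x * T⁻¹⁻¹) = T⁻¹ * x * T⁻¹⁻¹
      rw [inv_inv]
      exact Units.ext h
  have hP : P ≤ Y := by
    refine le_of_gens C gen7 ?_ ?_
    · intro s hs
      simp only [Set.mem_insert_iff, Set.mem_singleton_iff] at hs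
      rcases hs with rfl | rfl | rfl | rfl
      · exact ⟨a, (hY a).2 (by rw [IA.coe_conj, hA]), La⟩
      · exact ⟨b, (hY b).2 (by rw [IB.coe_conj, hB]), Lb⟩
      · exact ⟨k, (hY k).2 (by rw [IK.coe_conj, hK]), Lk⟩
      · exact ⟨g, (hY g).2 (by rw [IG.coe_conj, hG]), Lg⟩
    · intro c hc
      rw [hY, conj_sc, coe_sc]
      ext i j
      rw [Matrix.map_apply, Matrix.smul_apply, smul_eq_mul, map_mul, hsc c hc]
      congr 1
      rw [Matrix.one_apply]
      split_ifs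
      · exact map_one φ
      · exact map_zero φ
  have h1 := (hY x).1 (hP hx)
  rw [← tr_conj' T x]
  have h2 := congrArg Matrix.trace h1
  rw [← AddMonoidHom.map_trace] at h2
  exact h2

/-- `φ (tr x) = tr x⁻¹` -/
theorem tr_dual (φ : F →+* F) {Γ Γ' : M6} (hΓ : Γ * Γ' = 1) {a b k g T : GL (Fin 6) F} {A' B' K' G' : M3}
    (La : C.L a r3) (Lb : C.L b r3') (Lk : C.L k kk) (Lg : C.L g g4) (IA : Im T a A') (IB : Im T b B')
    (IK : Im T k K') (IG : Im T g G') (hsc : ∀ c : Fˣ, sc c ∈ P → φ c * c = 1)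
    (hA : ((rho A').map φ)ᵀ * Γ * rho A' = Γ) (hB : ((rho B').map φ)ᵀ * Γ * rho B' = Γ)
    (hK : ((rho K').map φ)ᵀ * Γ * rho K' = Γ) (hG : ((rho G').map φ)ᵀ * Γ * rho G' = Γ)
    {x : GL (Fin 6) F} (hx : x ∈ P) : φ (tr x) = tr x⁻¹ := by
  let Y : Subgroup (GL (Fin 6) F) :=
    { carrier := {x | (((T⁻¹ * x * T : GL (Fin 6) F) : M6).map φ)ᵀ * Γ * ((T⁻¹ * x * T : GL (Fin 6) F) : M6) = Γ}
      one_mem' := by
        show (((T⁻¹ * 1 * T : GL (Fin 6) F) : M6).map φ)ᵀ * Γ * ((T⁻¹ * 1 * T : GL (Fin 6) F) : M6) = Γ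
        rw [mul_one, inv_mul_cancel, Units.val_one, Matrix.map_one φ (map_zero φ) (map_one φ), Matrix.transpose_one,
          one_mul, mul_one]
      mul_mem' := by
        intro x y hx hy
        have e : T⁻¹ * (x * y) * T = (T⁻¹ * x * T) * (T⁻¹ * y * T) := by group
        show (((T⁻¹ * (x * y) * T : GL (Fin 6) F) : M6).map φ)ᵀ * Γ * ((T⁻¹ * (x * y) * T : GL (Fin 6) F) : M6) = Γ
        rw [e, Units.val_mul (T⁻¹ * x * T), Matrix.map_mul, Matrix.transpose_mul]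
        change (((T⁻¹ * x * T : GL (Fin 6) F) : M6).map φ)ᵀ * Γ * ((T⁻¹ * x * T : GL (Fin 6) F) : M6) = Γ at hx
        change (((T⁻¹ * y * T : GL (Fin 6) F) : M6).map φ)ᵀ * Γ * ((T⁻¹ * y * T : GL (Fin 6) F) : M6) = Γ at hy
        generalize ((T⁻¹ * x * T : GL (Fin 6) F) : M6) = X at hx ⊢
        generalize ((T⁻¹ * y * T : GL (Fin 6) F) : M6) = Z at hy ⊢
        calc (Z.map φ)ᵀ * (X.map φ)ᵀ * Γ * (X * Z) = (Z.map φ)ᵀ * ((X.map φ)ᵀ * Γ * X) * Z := by
              simp only [mul_assoc]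
          _ = Γ := by rw [hx, hy]
      inv_mem' := by
        intro x hx
        have e : T⁻¹ * x⁻¹ * T = (T⁻¹ * x * T)⁻¹ := by group
        show (((T⁻¹ * x⁻¹ * T : GL (Fin 6) F) : M6).map φ)ᵀ * Γ * ((T⁻¹ * x⁻¹ * T : GL (Fin 6) F) : M6) = Γ
        rw [e]
        change (((T⁻¹ * x * T : GL (Fin 6) F) : M6).map φ)ᵀ * Γ * ((T⁻¹ * x * T : GL (Fin 6) F) : M6) = Γ at hx
        generalize T⁻¹ * x * T = X at hx ⊢
        have h1 : (X : M6) * ((X⁻¹ : GL (Fin 6) F) : M6) = 1 := by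
          rw [← Units.val_mul, mul_inv_cancel, Units.val_one]
        have h2 : (((X⁻¹ : GL (Fin 6) F) : M6).map φ)ᵀ * ((X : M6).map φ)ᵀ = 1 := by
          rw [← Matrix.transpose_mul, ← Matrix.map_mul, h1, Matrix.map_one φ (map_zero φ) (map_one φ),
            Matrix.transpose_one]
        nth_rewrite 1 [← hx]
        calc (((X⁻¹ : GL (Fin 6) F) : M6).map φ)ᵀ * (((X : M6).map φ)ᵀ * Γ * X) * ((X⁻¹ : GL (Fin 6) F) : M6)
            = ((((X⁻¹ : GL (Fin 6) F) : M6).map φ)ᵀ * ((X : M6).map φ)ᵀ) * Γ * (X * ((X⁻¹ : GL (Fin 6) F) : M6)) := by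
              simp only [mul_assoc]
          _ = Γ := by rw [h1, h2, one_mul, mul_one] }
  have hP : P ≤ Y := by
    refine le_of_gens C gen7 ?_ ?_
    · intro s hs
      simp only [Set.mem_insert_iff, Set.mem_singleton_iff] at hs
      rcases hs with rfl | rfl | rfl | rfl
      · refine ⟨a, ?_, La⟩
        show (((T⁻¹ * a * T : GL (Fin 6) F) : M6).map φ)ᵀ * Γ * ((T⁻¹ * a * T : GL (Fin 6) F) : M6) = Γ
        rw [IA.coe_conj, hA]
      · refine ⟨b, ?_, Lb⟩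
        show (((T⁻¹ * b * T : GL (Fin 6) F) : M6).map φ)ᵀ * Γ * ((T⁻¹ * b * T : GL (Fin 6) F) : M6) = Γ
        rw [IB.coe_conj, hB]
      · refine ⟨k, ?_, Lk⟩
        show (((T⁻¹ * k * T : GL (Fin 6) F) : M6).map φ)ᵀ * Γ * ((T⁻¹ * k * T : GL (Fin 6) F) : M6) = Γ
        rw [IK.coe_conj, hK]
      · refine ⟨g, ?_, Lg⟩
        show (((T⁻¹ * g * T : GL (Fin 6) F) : M6).map φ)ᵀ * Γ * ((T⁻¹ * g * T : GL (Fin 6) F) : M6) = Γ
        rw [IG.coe_conj, hG]
    · intro c hc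
      show (((T⁻¹ * sc c * T : GL (Fin 6) F) : M6).map φ)ᵀ * Γ * ((T⁻¹ * sc c * T : GL (Fin 6) F) : M6) = Γ
      rw [conj_sc, coe_sc]
      have e1 : (((c : F) • (1 : M6)).map φ)ᵀ = φ c • 1 := by
        ext i j
        rw [Matrix.transpose_apply, Matrix.map_apply, Matrix.smul_apply, Matrix.smul_apply, smul_eq_mul, smul_eq_mul,
          map_mul]
        congr 1
        rw [Matrix.one_apply, Matrix.one_apply]
        by_cases h : j = i
        · rw [if_pos h, if_pos h.symm, map_one]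
        · rw [if_neg h, if_neg (Ne.symm h), map_zero]
      rw [e1, smul_mul_assoc, one_mul, mul_smul_comm, mul_one, smul_smul, mul_comm, hsc c hc, one_smul]
  have h1 : (((T⁻¹ * x * T : GL (Fin 6) F) : M6).map φ)ᵀ * Γ * ((T⁻¹ * x * T : GL (Fin 6) F) : M6) = Γ := hP hx
  rw [← tr_conj' T x, ← tr_conj' T x⁻¹]
  have e : T⁻¹ * x⁻¹ * T = (T⁻¹ * x * T)⁻¹ := by group
  rw [e]
  generalize T⁻¹ * x * T = X at h1 ⊢
  have h2 : (X : M6) * ((X⁻¹ : GL (Fin 6) F) : M6) = 1 := by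
    rw [← Units.val_mul, mul_inv_cancel, Units.val_one]
  have h3 : ((X : M6).map φ)ᵀ * Γ = Γ * ((X⁻¹ : GL (Fin 6) F) : M6) := by
    calc ((X : M6).map φ)ᵀ * Γ = ((X : M6).map φ)ᵀ * Γ * (X * ((X⁻¹ : GL (Fin 6) F) : M6)) := by rw [h2, mul_one]
      _ = ((X : M6).map φ)ᵀ * Γ * X * ((X⁻¹ : GL (Fin 6) F) : M6) := by simp only [mul_assoc]
      _ = _ := by rw [h1]
  have h4 : Γ' * Γ = 1 := mul_eq_one_comm.1 hΓ
  have h5 : ((X⁻¹ : GL (Fin 6) F) : M6) = Γ' * (((X : M6).map φ)ᵀ * Γ) := by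
    rw [h3, ← mul_assoc, h4, one_mul]
  show φ ((X : M6).trace) = ((X⁻¹ : GL (Fin 6) F) : M6).trace
  rw [h5, Matrix.trace_mul_comm, mul_assoc, hΓ, mul_one, Matrix.trace_transpose]
  exact AddMonoidHom.map_trace φ (X : M6)

/-! ### the images of the matrices -/

theorem map_rho (φ : F →+* F) (M : M3) : (rho M).map φ = rho (Matrix.of fun i j => (M i j).map φ) := rfl

theorem map_a3 (φ : F →+* F) (ω : F) : (rho (a3 ω) : M6).map φ = rho (a3 (φ ω)) := by
  rw [map_rho]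
  congr 1
  ext1 i j
  show ((if i = j then (ω ^ (j : ℕ)) • (1 : R2) else 0)).map φ = if i = j then ((φ ω) ^ (j : ℕ)) • (1 : R2) else 0
  split_ifs
  · ext r s
    rw [Matrix.map_apply, Matrix.smul_apply, Matrix.smul_apply, smul_eq_mul, smul_eq_mul, map_mul, map_pow,
      Matrix.one_apply]
    split_ifs
    · rw [map_one]
    · rw [map_zero]
  · ext r s
    exact map_zero φ

theorem map_b3 (φ : F →+* F) : (rho (b3 : M3)).map φ = rho b3 := by
  rw [map_rho]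
  congr 1
  ext1 i j
  show ((if i = j + 1 then (1 : R2) else 0)).map φ = if i = j + 1 then (1 : R2) else 0
  split_ifs
  · exact Matrix.map_one φ (map_zero φ) (map_one φ)
  · ext r s
    exact map_zero φ

theorem map_dg (φ : F →+* F) (x y z : R2) : (rho (dg x y z)).map φ = rho (dg (x.map φ) (y.map φ) (z.map φ)) := by
  rw [map_rho]
  congr 1
  have h0 : (0 : R2).map φ = 0 := by ext r s; exact map_zero φ
  apply ext3
  · rfl
  · exact h0
  · exact h0
  · exact h0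
  · rfl
  · exact h0
  · exact h0
  · exact h0
  · rfl

theorem map_gm (φ : F →+* F) (ω : F) (x : R2) : (rho (gm ω x)).map φ = rho (gm (φ ω) (x.map φ)) := by
  rw [map_rho]
  congr 1
  ext1 i j
  show (ω ^ (2 * (i : ℕ) * (j : ℕ)) • x).map φ = (φ ω) ^ (2 * (i : ℕ) * (j : ℕ)) • x.map φ
  ext r s
  rw [Matrix.map_apply, Matrix.smul_apply, Matrix.smul_apply, smul_eq_mul, smul_eq_mul, map_mul, map_pow,
    Matrix.map_apply]

theorem map_Q0 (φ : F →+* F) : (Q0 : R2).map φ = Q0 := by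
  ext i j
  fin_cases i <;> fin_cases j <;> simp [Q0]

theorem map_Q1 (φ : F →+* F) (A B : F) : (Q1 A B : R2).map φ = Q1 (φ A) (φ B) := by
  ext i j
  fin_cases i <;> fin_cases j <;> simp [Q1]

theorem map_Q2 (φ : F →+* F) (A B : F) : (Q2 A B : R2).map φ = Q2 (φ A) (φ B) := by
  ext i j
  fin_cases i <;> fin_cases j <;> simp [Q2]

theorem map_xneg (φ : F →+* F) (A B α u : F) : (xneg A B α u : R2).map φ = xneg (φ A) (φ B) (φ α) (φ u) := by
  ext i j
  fin_cases i <;> fin_cases j <;> simp [xneg, Q1, Q2]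

/-- transposed -/
def dagM (φ : F →+* F) (M : M3) : M3 := Matrix.of fun i j => ((M j i).map φ)ᵀ

theorem map_rho_transpose (φ : F →+* F) (M : M3) : ((rho M).map φ)ᵀ = rho (dagM φ M) := rfl

theorem dual_of {φ : F →+* F} {M : M3} {J : M3} (h : dagM φ M * J * M = J) :
    ((rho M).map φ)ᵀ * rho J * rho M = rho J := by
  rw [map_rho_transpose, ← map_mul, ← map_mul, h]

theorem dag_a3M (φ : F →+* F) (ω : F) : dagM φ (a3 ω) = a3 (φ ω) := by
  ext1 i j
  show ((if j = i then (ω ^ (i : ℕ)) • (1 : R2) else 0).map φ)ᵀ = if i = j then ((φ ω) ^ (j : ℕ)) • (1 : R2) else 0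
  by_cases h : i = j
  · subst h
    rw [if_pos rfl, if_pos rfl]
    ext r s
    rw [Matrix.transpose_apply, Matrix.map_apply, Matrix.smul_apply, Matrix.smul_apply, smul_eq_mul, smul_eq_mul,
      map_mul, map_pow, Matrix.one_apply, Matrix.one_apply]
    by_cases h' : s = r
    · rw [if_pos h', if_pos h'.symm, map_one]
    · rw [if_neg h', if_neg (Ne.symm h'), map_zero]
  · rw [if_neg h, if_neg (Ne.symm h)]
    ext r s
    exact map_zero φ

theorem a3_sq_mul {ω : F} (hω3 : ω ^ 3 = 1) : (a3 (ω ^ 2) * a3 ω : M3) = 1 := by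
  ext1 i j
  rw [mul_a3, a3_apply]
  by_cases h : i = j
  · subst h
    rw [if_pos rfl, Matrix.one_apply_eq, smul_smul, ← pow_mul, ← pow_add]
    rw [show (i : ℕ) + 2 * (i : ℕ) = 3 * i by ring, pow_mul, hω3, one_pow, one_smul]
  · rw [if_neg h, Matrix.one_apply_ne h, smul_zero]

theorem dual_a {φ : F →+* F} {ω : F} (hω3 : ω ^ 3 = 1) (hφ : φ ω = ω ^ 2) (J : R2) :
    dagM φ (a3 ω) * dg J J J * a3 ω = dg J J J := by
  rw [dag_a3M, hφ, mul_assoc, dg_a3, ← mul_assoc, a3_sq_mul hω3, one_mul]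

theorem dual_b (φ : F →+* F) (J : R2) : dagM φ b3 * dg J J J * b3 = dg J J J := by
  rw [mul_assoc, dg_b3, ← mul_assoc]
  have h1 : dagM φ b3 * b3 = (1 : M3) := by
    ext1 i j
    rw [mul_b3]
    show ((b3 (j + 1) i : R2).map φ)ᵀ = (1 : M3) i j
    rw [b3_apply]
    by_cases h : i = j
    · rw [if_pos (by rw [h]), h, Matrix.one_apply_eq, Matrix.map_one φ (map_zero φ) (map_one φ), Matrix.transpose_one]
    · rw [if_neg (fun h' => h (add_right_cancel h').symm), Matrix.one_apply_ne h]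
      ext r s
      exact map_zero φ
  rw [h1, one_mul]

theorem dag_dgM (φ : F →+* F) (x y z : R2) : dagM φ (dg x y z) = dg (x.map φ)ᵀ (y.map φ)ᵀ (z.map φ)ᵀ := by
  have h0 : ((0 : R2).map φ)ᵀ = 0 := by ext r s; exact map_zero φ
  apply ext3
  · rfl
  · exact h0
  · exact h0
  · exact h0
  · rfl
  · exact h0
  · exact h0
  · exact h0
  · rfl

theorem Q0_dual : ((Q0 : R2))ᵀ * Q0 * Q0 = Q0 := by
  ext i j
  fin_cases i <;> fin_cases j <;> simp [Q0, Matrix.mul_apply, Fin.sum_univ_two]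

theorem Q1_dual {A B : F} (h : A ^ 2 + B ^ 2 = -1) : ((Q1 A B : R2))ᵀ * Q0 * Q1 A B = Q0 := by
  ext i j
  fin_cases i <;> fin_cases j <;> simp [Q0, Q1, Matrix.mul_apply, Fin.sum_univ_two]
  · ring
  · linear_combination h
  · linear_combination -h
  · ring

theorem Q2_dual {A B : F} (h : A ^ 2 + B ^ 2 = -1) : ((Q2 A B : R2))ᵀ * Q0 * Q2 A B = Q0 := by
  ext i j
  fin_cases i <;> fin_cases j <;> simp [Q0, Q2, Matrix.mul_apply, Fin.sum_univ_two]
  · ring
  · linear_combination h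
  · linear_combination -h
  · ring

theorem dual_k {φ : F →+* F} {A B : F} (h : A ^ 2 + B ^ 2 = -1) (hA : φ A = A) (hB : φ B = B) :
    dagM φ (dg Q0 (Q1 A B) (Q2 A B)) * dg Q0 Q0 Q0 * dg Q0 (Q1 A B) (Q2 A B) = dg Q0 Q0 Q0 := by
  rw [dag_dgM, map_Q0, map_Q1, map_Q2, hA, hB, dg_mul, dg_mul, Q0_dual, Q1_dual h, Q2_dual h]

theorem dag_gmM (φ : F →+* F) (ω : F) (x : R2) : dagM φ (gm ω x) = gm (φ ω) (x.map φ)ᵀ := by
  ext1 i j
  show ((ω ^ (2 * (j : ℕ) * (i : ℕ)) • x).map φ)ᵀ = (φ ω) ^ (2 * (i : ℕ) * (j : ℕ)) • (x.map φ)ᵀ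
  ext r s
  rw [Matrix.transpose_apply, Matrix.map_apply, Matrix.smul_apply, Matrix.smul_apply, smul_eq_mul, smul_eq_mul, map_mul,
    map_pow, Matrix.transpose_apply, Matrix.map_apply]
  congr 2
  ring

theorem dg_gm {ω : F} (hω : ω ^ 2 + ω + 1 = 0) (J x : R2) : dg J J J * gm ω x = gm ω (J * x) := by
  obtain ⟨X00, X01, X02, X10, X11, X12, X20, X21, X22⟩ := dg_entries J J J
  obtain ⟨a00, a01, a02, a10, a11, a12, a20, a21, a22⟩ := gm_entries hω x
  obtain ⟨b00, b01, b02, b10, b11, b12, b20, b21, b22⟩ := gm_entries hω (J * x)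
  apply ext3 <;> simp only [mul3, a00, a01, a02, a10, a11, a12, a20, a21, a22, b00, b01, b02, b10, b11, b12, b20, b21,
    b22, X00, X01, X02, X10, X11, X12, X20, X21, X22, zero_mul, add_zero, zero_add, mul_smul_comm, smul_zero]

theorem gm_sq_mul' {ω : F} (hω : ω ^ 2 + ω + 1 = 0) (x y : R2) :
    gm (ω ^ 2) x * gm ω y = dg ((3 : F) • (x * y)) ((3 : F) • (x * y)) ((3 : F) • (x * y)) := by
  have hω' : (ω ^ 2) ^ 2 + ω ^ 2 + 1 = 0 := by linear_combination (ω ^ 2 - ω + 1) * hω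
  obtain ⟨a00, a01, a02, a10, a11, a12, a20, a21, a22⟩ := gm_entries hω' x
  obtain ⟨b00, b01, b02, b10, b11, b12, b20, b21, b22⟩ := gm_entries hω y
  obtain ⟨d00, d01, d02, d10, d11, d12, d20, d21, d22⟩ :=
    dg_entries ((3 : F) • (x * y)) ((3 : F) • (x * y)) ((3 : F) • (x * y))
  have hω3 := omega_cube hω
  have h4 : (ω ^ 2) ^ 2 = ω := by linear_combination ω * hω3
  have h1 : (ω * ω ^ 2 + ω ^ 2 * ω + 1 : F) = 3 := by linear_combination 2 * hω3
  have h2 : (1 + ω * ω + ω ^ 2 * ω ^ 2 : F) = 0 := by linear_combination hω + ω * hω3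
  apply ext3 <;> rw [mul3] <;>
    simp only [a00, a01, a02, a10, a11, a12, a20, a21, a22, b00, b01, b02, b10, b11, b12, b20, b21, b22, h4,
      d00, d01, d02, d10, d11, d12, d20, d21, d22, smul_mul_assoc, mul_smul_comm, smul_smul]
  · module
  · calc _ = (ω ^ 2 + ω + 1) • (x * y) := by module
      _ = 0 := by rw [hω, zero_smul]
  · calc _ = (ω ^ 2 + ω + 1) • (x * y) := by module
      _ = 0 := by rw [hω, zero_smul]
  · calc _ = (ω ^ 2 + ω + 1) • (x * y) := by module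
      _ = 0 := by rw [hω, zero_smul]
  · calc _ = (ω * ω ^ 2 + ω ^ 2 * ω + 1) • (x * y) := by module
      _ = _ := by rw [h1]
  · calc _ = (1 + ω * ω + ω ^ 2 * ω ^ 2) • (x * y) := by module
      _ = 0 := by rw [h2, zero_smul]
  · calc _ = (ω ^ 2 + ω + 1) • (x * y) := by module
      _ = 0 := by rw [hω, zero_smul]
  · calc _ = (1 + ω * ω + ω ^ 2 * ω ^ 2) • (x * y) := by module
      _ = 0 := by rw [h2, zero_smul]
  · calc _ = (ω * ω ^ 2 + ω ^ 2 * ω + 1) • (x * y) := by module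
      _ = _ := by rw [h1]

theorem xneg_eq (A B α u : F) : (xneg A B α u : R2) =
    !![u * (1 - α * (A - B)), -(u * α * (A + B)); -(u * α * (A + B)), u * (1 + α * (A - B))] := by
  ext i j
  fin_cases i <;> fin_cases j <;> simp [xneg, Q1, Q2] <;> first | ring1 | (left; ring1)

theorem Q0_mul_x (A B α u : F) : (Q0 * xneg A B α u : R2) =
    !![u * α * (A + B), -(u * (1 + α * (A - B))); u * (1 - α * (A - B)), -(u * α * (A + B))] := by
  rw [xneg_eq, Q0]
  ext i j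
  fin_cases i <;> fin_cases j <;> simp [Matrix.mul_apply, Fin.sum_univ_two]

theorem x_dual {A B α u : F} (h : A ^ 2 + B ^ 2 = -1) (hα : 2 * α ^ 2 = 1) (hu : 6 * u ^ 2 = -1) :
    (3 : F) • ((xneg A B α (-u) : R2)ᵀ * (Q0 * xneg A B α u)) = Q0 := by
  rw [Q0_mul_x, xneg_eq]
  have key : α ^ 2 * (A ^ 2 + B ^ 2) * 2 = -1 := by rw [h]; linear_combination -hα
  ext i j
  fin_cases i <;> fin_cases j <;> simp [Q0, Matrix.mul_apply, Fin.sum_univ_two]
  · right
    ring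
  · linear_combination (-3 * u ^ 2) * key + hu
  · linear_combination (3 * u ^ 2) * key - hu
  · right
    ring

theorem dual_g {φ : F →+* F} {ω A B α u : F} (hω : ω ^ 2 + ω + 1 = 0) (hφ : φ ω = ω ^ 2) (h : A ^ 2 + B ^ 2 = -1)
    (hα : 2 * α ^ 2 = 1) (hu : 6 * u ^ 2 = -1) (hA : φ A = A) (hB : φ B = B) (hφα : φ α = α) (hφu : φ u = -u) :
    dagM φ (gm ω (xneg A B α u)) * dg Q0 Q0 Q0 * gm ω (xneg A B α u) = dg Q0 Q0 Q0 := by
  rw [dag_gmM, hφ, map_xneg, hA, hB, hφα, hφu, mul_assoc, dg_gm hω, gm_sq_mul' hω, x_dual h hα hu]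

/-! ### traces -/

theorem trace_rho (M : M3) : (rho M).trace = (M 0 0).trace + (M 1 1).trace + (M 2 2).trace := by
  rw [Matrix.trace, ← (finProdFinEquiv : Fin 3 × Fin 2 ≃ Fin 6).sum_comp, Fintype.sum_prod_type, Fin.sum_univ_three]
  have e : ∀ (i : Fin 3) (j : Fin 2), (rho M).diag (finProdFinEquiv (i, j)) = M i i j j := by
    intro i j
    rw [Matrix.diag_apply, rho_apply, Equiv.symm_apply_apply]
  simp only [e]
  rfl

theorem trace_xneg (A B α u : F) : (xneg A B α u : R2).trace = 2 * u := by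
  rw [xneg_eq, Matrix.trace_fin_two]
  simp
  ring

theorem trace_g {ω : F} (hω : ω ^ 2 + ω + 1 = 0) (A B α u : F) :
    (rho (gm ω (xneg A B α u))).trace = (1 + 2 * ω ^ 2) * (2 * u) := by
  obtain ⟨a00, a01, a02, a10, a11, a12, a20, a21, a22⟩ := gm_entries hω (xneg A B α u)
  rw [trace_rho, a00, a11, a22, Matrix.trace_smul, trace_xneg, smul_eq_mul]
  ring

theorem trace_g_inv {ω : F} (hω : ω ^ 2 + ω + 1 = 0) {A B α u : F} (h : A ^ 2 + B ^ 2 = -1) (hα : 2 * α ^ 2 = 1)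
    (hu : 6 * u ^ 2 = -1) :
    (rho (gm ω (xneg A B α u) * (gm ω (xneg A B α u) * gm ω (xneg A B α u)))).trace = -((1 + 2 * ω ^ 2) * (2 * u)) := by
  rw [gm_mul_gm hω]
  obtain ⟨t, ht⟩ : ∃ t : R2, t = (3 : F) • (xneg A B α u * xneg A B α u) := ⟨_, rfl⟩
  rw [← ht]
  obtain ⟨a00, a01, a02, a10, a11, a12, a20, a21, a22⟩ := gm_entries hω (xneg A B α u)
  obtain ⟨r00, r01, r02, r10, r11, r12, r20, r21, r22⟩ := rm_entries t
  have hxt : (xneg A B α u * t).trace = 2 * u := by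
    have hc := ch2 (xneg A B α u : R2)
    have hdet : (xneg A B α u : R2).det = 2 * u ^ 2 := by
      rw [xneg_eq, Matrix.det_fin_two]
      simp
      linear_combination (-2 * u ^ 2 * α ^ 2) * h + u ^ 2 * hα
    rw [trace_xneg, hdet] at hc
    rw [ht, hc, mul_smul_comm, Matrix.trace_smul, mul_sub, mul_smul_comm, mul_smul_comm, mul_one, hc,
      Matrix.trace_sub, Matrix.trace_smul, Matrix.trace_sub, Matrix.trace_smul, Matrix.trace_smul, Matrix.trace_smul,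
      trace_xneg, Matrix.trace_one, Fintype.card_fin]
    simp only [smul_eq_mul]
    push_cast
    linear_combination (-2 * u) * hu
  rw [trace_rho]
  simp only [mul3, a00, a01, a02, a10, a11, a12, a20, a21, a22, r00, r01, r02, r10, r11, r12, r20, r21, r22, mul_zero,
    add_zero, zero_add, smul_mul_assoc]
  rw [Matrix.trace_smul, hxt, smul_eq_mul]
  linear_combination (4 * u) * hω

end Cfsg.Agent.H890.A7
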