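import Cfsg.Agent.H890.A7.SixFrob

/-!
# `3.A₇`, `6.A₇` in dimension six (helper890)

`facts_SL`, `facts_SU`: if `H` is maximal in `SL₆(F)`, `SU₆(q)`, with core `P` of type `A₇` containing a scalar of
order three, then `p ≠ 2, 3`, `Fr P (p²)`, `Fr P p` for `p = 1, 7 mod 24`, `Cj P p` for `p = 17, 23 mod 24`, and there
is an element `g` of `P` with `(tr g)² = 2`, `tr g⁻¹ = tr g`.
-/

set_option autoImplicit false
set_option linter.unusedSectionVars false

namespace Cfsg.Agent.H890.A7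

open Cfsg Cfsg.Geo Matrix Cfsg.Agent.H913.N6 Cfsg.Agent.H890.Y3
open Cfsg.Agent.H915.LD (Core Soc toSoc tr SD Fr Cj FixU core_of_residual tr_conj)

variable {F : Type*} [Field F] {H P : Subgroup (GL (Fin 6) F)} {C : Cov P (alternatingGroup (Fin 7))}

local notation "M6" => Matrix (Fin 6) (Fin 6) F

/-- The facts about the core. -/
def Facts (P : Subgroup (GL (Fin 6) F)) (p : ℕ) : Prop :=
  p ≠ 2 ∧ p ≠ 3 ∧ Fr P (p ^ 2) ∧ (p % 24 = 1 ∨ p % 24 = 7 → Fr P p) ∧ (p % 24 = 17 ∨ p % 24 = 23 → Cj P p) ∧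
    ∃ g ∈ P, tr g ^ 2 = 2 ∧ tr g⁻¹ = tr g

theorem exists_sum_sq (p : ℕ) [hp : Fact p.Prime] [CharP F p] :
    ∃ A B : F, A ^ 2 + B ^ 2 = -1 ∧ A ^ p = A ∧ B ^ p = B := by
  obtain ⟨a, b, hab⟩ := ZMod.sq_add_sq p (-1)
  refine ⟨ZMod.castHom (dvd_refl p) F a, ZMod.castHom (dvd_refl p) F b, ?_, ?_, ?_⟩
  · rw [← map_pow, ← map_pow, ← map_add, hab, map_neg, map_one]
  · rw [← map_pow, ZMod.pow_card]
  · rw [← map_pow, ZMod.pow_card]

theorem exists_sqrt_two {p : ℕ} [hp : Fact p.Prime] [CharP F p] (hp2 : p ≠ 2) (h : p % 8 = 1 ∨ p % 8 = 7) :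
    ∃ s : F, s ^ 2 = 2 ∧ s ^ p = s := by
  obtain ⟨s, hs⟩ := (ZMod.exists_sq_eq_two_iff hp2).2 h
  refine ⟨ZMod.castHom (dvd_refl p) F s, ?_, ?_⟩
  · rw [← map_pow, sq, ← hs, map_ofNat]
  · rw [← map_pow, ZMod.pow_card]

theorem eq_or_neg {x y : F} (h : x ^ 2 = y ^ 2) : x = y ∨ x = -y := sq_eq_sq_iff_eq_or_eq_neg.1 h

theorem facts_of [Finite F] (hC : Core P) (p : ℕ) [hp : Fact p.Prime] [CharP F p] (h2 : (2 : F) ≠ 0) {ω : Fˣ}
    {a b k g : GL (Fin 6) F} (hrel : Rel (-1) ω a b k g) (La : C.L a r3) (Lb : C.L b r3') (Lk : C.L k kk)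
    (Lg : C.L g g4) (hω : (ω : F) ^ 2 + ω + 1 = 0) (h3 : (3 : F) ≠ 0) : Facts P p := by
  have hp2 : p ≠ 2 := by
    rintro rfl
    exact h2 (by exact_mod_cast CharP.cast_eq_zero F 2)
  have hp3 : p ≠ 3 := by
    rintro rfl
    exact h3 (by exact_mod_cast CharP.cast_eq_zero F 3)
  have hm2 : p % 2 ≠ 0 := fun h =>
    hp2 ((Nat.prime_dvd_prime_iff_eq Nat.prime_two hp.out).1 (Nat.dvd_of_mod_eq_zero h)).symm
  have hm3 : p % 3 ≠ 0 := fun h =>
    hp3 ((Nat.prime_dvd_prime_iff_eq Nat.prime_three hp.out).1 (Nat.dvd_of_mod_eq_zero h)).symm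
  have h6 : (6 : F) ≠ 0 := by
    rw [show (6 : F) = 2 * 3 by norm_num]
    exact mul_ne_zero h2 h3
  have hω3 := omega_cube hω
  have hω0 := omega_ne_zero hω
  have hθ := theta_ne hω h3
  have hθ2 := theta_sq hω
  obtain ⟨A, B, hAB, hA, hB⟩ := exists_sum_sq (F := F) p
  have hdet : (g : M6).det = 1 := by
    rw [← Matrix.GeneralLinearGroup.val_det_apply, hC.det Lg.mem, Units.val_one]
  obtain ⟨T, α, u, hα, hu, IA, IB, IK, IG⟩ := normal_form_neg hrel hω h2 h3 hdet hAB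
  obtain ⟨φ, hφ⟩ : ∃ φ : F →+* F, ∀ x, φ x = x ^ p := ⟨frobenius F p, fun x => rfl⟩
  have hsc : ∀ c : Fˣ, sc c ∈ P → (c : F) ^ 6 = 1 := by
    intro c hc
    rw [← Units.val_pow_eq_pow_val, z6_of hC c hc, Units.val_one]
  have hφA : φ A = A := by rw [hφ, hA]
  have hφB : φ B = B := by rw [hφ, hB]
  have hα' : φ α = α ∨ φ α = -α := by
    apply eq_or_neg
    have h1 := congrArg φ hα
    rw [map_mul, map_ofNat, map_pow, map_one] at h1
    have h4 : (2 : F) * (φ α ^ 2 - α ^ 2) = 0 := by linear_combination h1 - hα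
    exact sub_eq_zero.1 ((mul_eq_zero.1 h4).resolve_left h2)
  have hu' : φ u = u ∨ φ u = -u := by
    apply eq_or_neg
    have h1 := congrArg φ hu
    rw [map_mul, map_ofNat, map_pow, map_neg, map_one] at h1
    have h4 : (6 : F) * (φ u ^ 2 - u ^ 2) = 0 := by linear_combination h1 - hu
    exact sub_eq_zero.1 ((mul_eq_zero.1 h4).resolve_left h6)
  -- the cube roots of unity
  have hω1 : p % 3 = 1 → φ ω = ω := by
    intro h
    rw [hφ, ← Nat.div_add_mod p 3, h, pow_add, pow_mul, hω3, one_pow, one_mul, pow_one]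
  have hω2 : p % 3 = 2 → φ ω = (ω : F) ^ 2 := by
    intro h
    rw [hφ, ← Nat.div_add_mod p 3, h, pow_add, pow_mul, hω3, one_pow, one_mul]
  have hc1 : p % 3 = 1 → ∀ c : Fˣ, sc c ∈ P → φ c = c := by
    intro h c hc
    have h4 : p % 6 = 1 := by omega
    rw [hφ, ← Nat.div_add_mod p 6, h4, pow_add, pow_mul, hsc c hc, one_pow, one_mul, pow_one]
  have hc2 : p % 3 = 2 → ∀ c : Fˣ, sc c ∈ P → φ c * c = 1 := by
    intro h c hc
    have h4 : p % 6 = 5 := by omega
    rw [hφ, ← pow_succ, ← Nat.div_add_mod p 6, h4, add_assoc, pow_add, pow_mul, hsc c hc, one_pow, one_mul]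
  -- `√2`
  have hsq : (p % 8 = 1 ∨ p % 8 = 7) → φ α = α ∧ φ (((ω : F) - (ω : F) ^ 2) * u) = ((ω : F) - (ω : F) ^ 2) * u := by
    intro h
    obtain ⟨s, hs, hsp⟩ := exists_sqrt_two (F := F) hp2 h
    have hφs : φ s = s := by rw [hφ, hsp]
    have key : ∀ y : F, 2 * y ^ 2 = 1 → φ y = y := by
      intro y hy
      have h4 : (2 * y) ^ 2 = s ^ 2 := by rw [hs]; linear_combination 2 * hy
      have h5 : φ (2 * y) = 2 * y := by
        rcases eq_or_neg h4 with h | h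
        · rw [h, hφs]
        · rw [h, map_neg, hφs]
      rw [map_mul, map_ofNat] at h5
      exact mul_left_cancel₀ h2 h5
    refine ⟨key α hα, key _ ?_⟩
    linear_combination (2 * u ^ 2) * hθ2 - hu
  refine ⟨hp2, hp3, ?_, ?_, ?_, g, Lg.mem, ?_, ?_⟩
  · intro x hx
    have h1 := tr_fix (φ.comp φ) La Lb Lk Lg IA IB IK IG (by
        intro c hc
        show φ (φ c) = c
        rcases (by omega : p % 3 = 1 ∨ p % 3 = 2) with h | h
        · rw [hc1 h c hc, hc1 h c hc]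
        · have h4 := hc2 h c hc
          have h5 : φ (c : F) = (c : F)⁻¹ := eq_inv_of_mul_eq_one_left h4
          rw [h5, map_inv₀, h5, inv_inv])
      (by
        rw [map_a3]
        show rho (a3 (φ (φ ω))) = _
        rcases (by omega : p % 3 = 1 ∨ p % 3 = 2) with h | h
        · rw [hω1 h, hω1 h]
        · rw [hω2 h, map_pow, hω2 h, show ((ω : F) ^ 2) ^ 2 = ω by linear_combination (ω : F) * hω3])
      (map_b3 _)
      (by
        rw [map_dg, map_Q0, map_Q1, map_Q2]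
        show rho (dg Q0 (Q1 (φ (φ A)) (φ (φ B))) (Q2 (φ (φ A)) (φ (φ B)))) = _
        rw [hφA, hφB, hφA, hφB])
      (by
        rw [map_gm, map_xneg]
        show rho (gm (φ (φ ω)) (xneg (φ (φ A)) (φ (φ B)) (φ (φ α)) (φ (φ u)))) = _
        rw [hφA, hφB, hφA, hφB]
        have e1 : φ (φ α) = α := by
          rcases hα' with h | h
          · rw [h, h]
          · rw [h, map_neg, h, neg_neg]
        have e2 : φ (φ u) = u := by
          rcases hu' with h | h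
          · rw [h, h]
          · rw [h, map_neg, h, neg_neg]
        rw [e1, e2]
        rcases (by omega : p % 3 = 1 ∨ p % 3 = 2) with h | h
        · rw [hω1 h, hω1 h]
        · rw [hω2 h, map_pow, hω2 h, show ((ω : F) ^ 2) ^ 2 = ω by linear_combination (ω : F) * hω3])
      hx
    have h4 : (φ.comp φ) (tr x) = φ (φ (tr x)) := rfl
    rw [h4, hφ, hφ, ← pow_mul, ← sq] at h1
    exact h1
  · intro h24 x hx
    have h31 : p % 3 = 1 := by omega
    obtain ⟨e1, e2⟩ := hsq (by omega)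
    have e3 : φ u = u := by
      rw [map_mul, map_sub, map_pow, hω1 h31] at e2
      exact mul_left_cancel₀ hθ e2
    have h1 := tr_fix φ La Lb Lk Lg IA IB IK IG (hc1 h31)
      (by rw [map_a3, hω1 h31])
      (map_b3 _)
      (by rw [map_dg, map_Q0, map_Q1, map_Q2, hφA, hφB])
      (by rw [map_gm, map_xneg, hφA, hφB, e1, e3, hω1 h31])
      hx
    rw [hφ] at h1
    exact h1
  · intro h24 x hx
    have h32 : p % 3 = 2 := by omega
    obtain ⟨e1, e2⟩ := hsq (by omega)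
    have e3 : φ u = -u := by
      rw [map_mul, map_sub, map_pow, hω2 h32, show ((ω : F) ^ 2) ^ 2 = ω by linear_combination (ω : F) * hω3] at e2
      have e4 : ((ω : F) - (ω : F) ^ 2) * φ u = ((ω : F) - (ω : F) ^ 2) * -u := by linear_combination -e2
      exact mul_left_cancel₀ hθ e4
    have hQ : (Q0 * -Q0 : Matrix (Fin 2) (Fin 2) F) = 1 := by
      ext i j
      fin_cases i <;> fin_cases j <;> simp [Q0]
    have h1 := tr_dual φ (Γ := rho (dg Q0 Q0 Q0)) (Γ' := rho (dg (-Q0) (-Q0) (-Q0)))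
      (by rw [← map_mul, dg_mul, hQ, dg_one, map_one]) La Lb Lk Lg IA IB IK IG (hc2 h32)
      (dual_of (dual_a hω3 (hω2 h32) Q0)) (dual_of (dual_b φ Q0)) (dual_of (dual_k hAB hφA hφB))
      (dual_of (dual_g hω (hω2 h32) hAB hα hu hφA hφB e1 e3)) hx
    rw [hφ] at h1
    exact h1
  · have h1 : tr g = (1 + 2 * (ω : F) ^ 2) * (2 * u) := by
      rw [← tr_conj' T g, tr, IG.coe_conj, trace_g hω]
    rw [h1]
    linear_combination (16 * u ^ 2 * ((ω : F) ^ 2 - ω + 1)) * hω - (2 : F) * hu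
  · have h1 : tr g = (1 + 2 * (ω : F) ^ 2) * (2 * u) := by
      rw [← tr_conj' T g, tr, IG.coe_conj, trace_g hω]
    have h4 : g⁻¹ = sc (-1) * (g * (g * g)) := by
      have h5 : (g * (g * g)) * g = sc (-1) := by
        rw [← hrel.g4, pow_succ, pow_succ, sq, mul_assoc g g g]
      rw [inv_eq_iff_mul_eq_one]
      rw [← mul_assoc g, ← sc_comm, mul_assoc]
      have h6 : g * (g * (g * g)) = sc (-1) := by rw [← h5]; group
      rw [h6, ← sc_mul, neg_mul_neg, one_mul, sc_one]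
    have h5 : tr (g * (g * g)) = -((1 + 2 * (ω : F) ^ 2) * (2 * u)) := by
      rw [← tr_conj' T, tr, (show Im T ((g * (g * g) : GL (Fin 6) F) : M6) _ from by
        rw [Units.val_mul, Units.val_mul]; exact IG.mul (IG.mul IG)).coe_conj, trace_g_inv hω hAB hα hu]
    rw [h1, h4]
    have h6 : tr (sc (-1) * (g * (g * g))) = -tr (g * (g * g)) := by
      rw [tr, tr, Units.val_mul, coe_sc, Units.val_neg, Units.val_one, neg_smul, one_smul, neg_mul, one_mul,
        Matrix.trace_neg]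
    rw [h6, h5, neg_neg]

/-- **The linear case.** -/
theorem facts_SL [Finite F] (p : ℕ) [hp : Fact p.Prime] [CharP F p] (hmax : IsMaximalIn (specialLinear (Fin 6) F) H)
    (hH : IsResidualCore H P) (e : Soc P ≃* alternatingGroup (Fin 7))
    (hz : ∃ c : Fˣ, c ≠ 1 ∧ c ^ 3 = 1 ∧ (sc c : GL (Fin 6) F) ∈ P) : Facts P p := by
  rcases exists_frame (core_of_residual hH) (Cov.of e) hz with ⟨ω, a, b, k, g, T, ε, h⟩ |
    ⟨h2, -, ω, a, b, k, g, hrel, La, Lb, Lk, Lg, -, -, -, hω, h3, -⟩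
  · exact (h.false_SL hmax hH).elim
  · exact facts_of (core_of_residual hH) p h2 hrel La Lb Lk Lg hω h3

/-- **The unitary case.** -/
theorem facts_SU [Fintype F] {q : ℕ} (hF : Fintype.card F = q ^ 2) (p : ℕ) [hp : Fact p.Prime] [CharP F p]
    (hmax : IsMaximalIn (GU 6 F q ⊓ specialLinear (Fin 6) F) H)
    (hH : IsResidualCore H P) (e : Soc P ≃* alternatingGroup (Fin 7))
    (hz : ∃ c : Fˣ, c ≠ 1 ∧ c ^ 3 = 1 ∧ (sc c : GL (Fin 6) F) ∈ P) : Facts P p := by
  rcases exists_frame (core_of_residual hH) (Cov.of e) hz with ⟨ω, a, b, k, g, T, ε, h⟩ |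
    ⟨h2, -, ω, a, b, k, g, hrel, La, Lb, Lk, Lg, -, -, -, hω, h3, -⟩
  · exact (h.false_SU hF hmax hH).elim
  · exact facts_of (core_of_residual hH) p h2 hrel La Lb Lk Lg hω h3

end Cfsg.Agent.H890.A7
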