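import Cfsg.Agent.H890.A7.SixMain
import Cfsg.Agent.H637.A7Main

/-!
# Cores of type `A₇` in dimension six (helper890)

`six_SL`, `six_SU` : a maximal subgroup of `SL₆(F)`, `SU₆(q)` with core `P` of type `A₇` : `SD P` or `Facts P p`.
`field_SL`, `field_SU` : the fields.
-/

set_option autoImplicit false
set_option linter.unusedSectionVars false

namespace Cfsg.Agent.H890.A7

open Cfsg Cfsg.Geo Matrix Cfsg.Agent.H913.N6
open Cfsg.Agent.H915.LD

universe u

variable {F : Type u} [Field F] {H P : Subgroup (GL (Fin 6) F)}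

theorem sc_of_mem_scalars {g : GL (Fin 6) F} (h : g ∈ scalars (Fin 6) F) : ∃ c : Fˣ, g = sc c := by
  rw [mem_scalars_iff] at h
  obtain ⟨c, hc⟩ := h
  exact ⟨c, Units.ext (by rw [hc, coe_sc])⟩

/-- a scalar of order three -/
theorem hz_of [Finite F] (p : ℕ) [hp : Fact p.Prime] [CharP F p] (hC : Core P)
    (e : Soc P ≃* alternatingGroup (Fin 7)) (hsd : ¬ SD P) :
    ∃ c : Fˣ, c ≠ 1 ∧ c ^ 3 = 1 ∧ (sc c : GL (Fin 6) F) ∈ P := by
  by_contra hcon
  push Not at hcon
  apply hsd
  rcases H637.A7Main.le_two p hC e (by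
    intro g hg hgs
    obtain ⟨c, rfl⟩ := sc_of_mem_scalars hgs
    have h6 := z6_of hC c hg
    by_cases h : c ^ 2 = 1
    · rw [← sc_mul, ← sq, h, sc_one]
    · exfalso
      refine hcon (c ^ 2) h ?_ ?_
      · rw [← pow_mul]; exact h6
      · rw [sc_pow]; exact pow_mem hg 2) with h | ⟨h, -⟩
  · exact h
  · rw [Fintype.card_fin] at h
    omega

/-- a scalar of order three from the number of scalars -/
theorem hz_of_dvd [Finite F] (h : 3 ∣ Nat.card ((scalars (Fin 6) F).subgroupOf P)) :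
    ∃ c : Fˣ, c ≠ 1 ∧ c ^ 3 = 1 ∧ (sc c : GL (Fin 6) F) ∈ P := by
  have : Fact (Nat.Prime 3) := ⟨by norm_num⟩
  obtain ⟨z, hz⟩ := exists_prime_orderOf_dvd_card' (G := (scalars (Fin 6) F).subgroupOf P) 3 h
  obtain ⟨c, hc⟩ := sc_of_mem_scalars z.2
  refine ⟨c, ?_, ?_, ?_⟩
  · rintro rfl
    have h3 : z = 1 := by
      apply Subtype.ext
      apply Subtype.ext
      show ((z : P) : GL (Fin 6) F) = 1
      rw [← sc_one]
      exact hc
    rw [h3, orderOf_one] at hz
    omega
  · have h2 : z ^ 3 = 1 := by rw [← hz, pow_orderOf_eq_one]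
    have h3 : ((((z ^ 3 : (scalars (Fin 6) F).subgroupOf P) : P)) : GL (Fin 6) F) = 1 := by
      rw [h2]; rfl
    have h4 : (sc (c ^ 3) : GL (Fin 6) F) = 1 := by
      rw [sc_pow, ← h3]
      show (sc c : GL (Fin 6) F) ^ 3 = ((z : P) : GL (Fin 6) F) ^ 3
      congr 1
      exact hc.symm
    rw [← sc_one] at h4
    exact sc_inj h4
  · have h5 : ((z : P) : GL (Fin 6) F) = sc c := hc
    rw [← h5]
    exact (z : P).2

/-- **`A₇`, dimension six, linear case.** -/
theorem six_SL [Finite F] (p : ℕ) [hp : Fact p.Prime] [CharP F p] (hmax : IsMaximalIn (specialLinear (Fin 6) F) H)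
    (hH : IsResidualCore H P) (e : Soc P ≃* alternatingGroup (Fin 7)) : SD P ∨ Facts P p := by
  by_cases h : SD P
  · exact Or.inl h
  · exact Or.inr (facts_SL p hmax hH e (hz_of p (core_of_residual hH) e h))

/-- **`A₇`, dimension six, unitary case.** -/
theorem six_SU [Fintype F] {q : ℕ} (hF : Fintype.card F = q ^ 2) (p : ℕ) [hp : Fact p.Prime] [CharP F p]
    (hmax : IsMaximalIn (GU 6 F q ⊓ specialLinear (Fin 6) F) H) (hH : IsResidualCore H P)
    (e : Soc P ≃* alternatingGroup (Fin 7)) : SD P ∨ Facts P p := by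
  by_cases h : SD P
  · exact Or.inl h
  · exact Or.inr (facts_SU hF p hmax hH e (hz_of p (core_of_residual hH) e h))

end Cfsg.Agent.H890.A7
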