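import Cfsg.Agent.H890.A7.Norm

/-!
# `6.A₇` : normal form in dimension six (helper890)

`k = diag(D₀, D₁, D₂)`, `D_i` the quaternion matrices, `g = DFT ⊗ x`, `x = u (1 - t)`, `t = α (D₁ - D₂)`, `2 α² = 1`,
`6 u² = -1`.
-/

set_option autoImplicit false
set_option linter.unusedSectionVars false

namespace Cfsg.Agent.H890.A7

open Matrix Cfsg.Agent.H913.N6

section gen

variable {F : Type*} [Field F] {R : Type*} [Ring R] [Algebra F R] {ω : F}

/-- First consequences, `e = -1`. -/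
theorem stage_one_neg (hω : ω ^ 2 + ω + 1 = 0) (h3 : (3 : F) ≠ 0) {k g : Matrix (Fin 3) (Fin 3) R}
    (ka : k * a3 ω = a3 ω * k) (ga : g * a3 ω = b3 * g) (gb : a3 ω * (g * b3) = g) (k2 : k * k = -1)
    (g4 : (g * g) * (g * g) = -1) (sk : (g * g) * k = -(k * (g * g))) (v4 : k * b3 * k * b3 = b3 * (b3 * k)) :
    ∃ x d₀ d₁ d₂ t : R, k = dg d₀ d₁ d₂ ∧ g = gm ω x ∧ t = (3 : F) • (x * x) ∧ g * g = rm t ∧ t * t = -1 ∧
      t * d₀ = -(d₀ * t) ∧ t * d₂ = -(d₁ * t) ∧ t * d₁ = -(d₂ * t) ∧ d₀ * d₀ = -1 ∧ d₁ * d₁ = -1 ∧ d₂ * d₂ = -1 ∧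
      d₂ * d₁ = d₀ ∧ d₀ * d₂ = d₁ ∧ d₁ * d₀ = d₂ := by
  obtain ⟨x, hx⟩ : ∃ x, x = g 0 0 := ⟨_, rfl⟩
  obtain ⟨d₀, hd₀⟩ : ∃ x, x = k 0 0 := ⟨_, rfl⟩
  obtain ⟨d₁, hd₁⟩ : ∃ x, x = k 1 1 := ⟨_, rfl⟩
  obtain ⟨d₂, hd₂⟩ : ∃ x, x = k 2 2 := ⟨_, rfl⟩
  have hk := diag_of_comm hω h3 ka
  have hg := gm_of hω ga gb
  rw [← hd₀, ← hd₁, ← hd₂] at hk
  rw [← hx] at hg
  have hgg : g * g = rm ((3 : F) • (x * x)) := by
    rw [hg, gm_mul_gm hω]
  obtain ⟨t, ht⟩ : ∃ t, t = (3 : F) • (x * x) := ⟨_, rfl⟩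
  rw [← ht] at hgg
  obtain ⟨r00, r01, r02, r10, r11, r12, r20, r21, r22⟩ := rm_entries t
  obtain ⟨k00, k01, k02, k10, k11, k12, k20, k21, k22⟩ := dg_entries d₀ d₁ d₂
  rw [hgg, hk] at sk
  rw [hgg] at g4
  rw [hk] at k2 v4
  have neg1 : ∀ i : Fin 3, (-1 : Matrix (Fin 3) (Fin 3) R) i i = -1 := fun i => by
    rw [Matrix.neg_apply, Matrix.one_apply_eq]
  have s1 := congrFun (congrFun g4 0) 0
  rw [mul3, r00, r01, r02, zero_mul, zero_mul, add_zero, add_zero, neg1] at s1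
  have s2 := congrFun (congrFun sk 0) 0
  rw [Matrix.neg_apply, mul3, mul3, r00, r01, r02, k00, k01, k02, r10, r20] at s2
  simp only [zero_mul, mul_zero, add_zero] at s2
  have s3 := congrFun (congrFun sk 1) 2
  rw [Matrix.neg_apply, mul3, mul3, r10, r11, r12, k02, k12, k22, k10, k11, r02, r22] at s3
  simp only [mul_zero, add_zero, zero_add] at s3
  have s4 := congrFun (congrFun sk 2) 1
  rw [Matrix.neg_apply, mul3, mul3, r20, r21, r22, k01, k11, k21, k20, k22, r01, r11] at s4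
  simp only [mul_zero, add_zero, zero_add] at s4
  have q0 := congrFun (congrFun k2 0) 0
  rw [mul3, k00, k01, k02, neg1] at q0
  simp only [zero_mul, add_zero] at q0
  have q1 := congrFun (congrFun k2 1) 1
  rw [mul3, k10, k11, k12, neg1] at q1
  simp only [zero_mul, add_zero, zero_add] at q1
  have q2 := congrFun (congrFun k2 2) 2
  rw [mul3, k20, k21, k22, neg1] at q2
  simp only [zero_mul, add_zero, zero_add] at q2
  have key : ∀ j : Fin 3, dg d₀ d₁ d₂ (j + 2) (j + 2) * dg d₀ d₁ d₂ (j + 1) (j + 1) = dg d₀ d₁ d₂ j j := by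
    intro j
    have h1 := congrFun (congrFun v4 (j + 1 + 1)) j
    rw [b3_mul, b3_mul, mul_b3] at h1
    rw [← h1]
    have h2 : ∀ i l : Fin 3, (dg d₀ d₁ d₂ * b3 * dg d₀ d₁ d₂ : Matrix (Fin 3) (Fin 3) R) i l =
        dg d₀ d₁ d₂ i i * (if i = l + 1 then 1 else 0) * dg d₀ d₁ d₂ l l := by
      intro i l
      rw [Matrix.mul_apply, Finset.sum_eq_single l]
      · rw [Matrix.mul_apply, Finset.sum_eq_single i]
        · rfl
        · intro b _ h
          rw [show dg d₀ d₁ d₂ i b = 0 from if_neg (Ne.symm h), zero_mul]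
        · intro h; exact absurd (Finset.mem_univ _) h
      · intro b _ h
        rw [show dg d₀ d₁ d₂ b l = 0 from if_neg h, mul_zero]
      · intro h; exact absurd (Finset.mem_univ _) h
    rw [h2, if_pos rfl, mul_one]
    rcases fin3 j with rfl | rfl | rfl <;> rfl
  refine ⟨x, d₀, d₁, d₂, t, hk, hg, ht, hgg, s1, s2, s3, s4, q0, q1, q2, key 0, ?_, ?_⟩
  · exact key 1
  · exact key 2

end gen

section two

variable {F : Type*} [Field F]

local notation "R2" => Matrix (Fin 2) (Fin 2) F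

/-- what commutes with a non-scalar matrix `t` is `u + v t` -/
theorem exists_uv {t x : R2} (ht : ¬ IsSc t) (h : x * t = t * x) : ∃ u v : F, x = u • 1 + v • t := by
  have e00 := congrFun (congrFun h 0) 0
  have e01 := congrFun (congrFun h 0) 1
  have e10 := congrFun (congrFun h 1) 0
  have e11 := congrFun (congrFun h 1) 1
  simp only [Matrix.mul_apply, Fin.sum_univ_two] at e00 e01 e10 e11
  by_cases h01 : t 0 1 = 0
  · by_cases h10 : t 1 0 = 0
    · have hd : t 0 0 - t 1 1 ≠ 0 := by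
        intro hd
        apply ht
        refine ⟨t 0 0, ?_⟩
        ext i j
        fin_cases i <;> fin_cases j <;> simp [h01, h10]
        linear_combination -hd
      refine ⟨x 0 0 - (x 0 0 - x 1 1) / (t 0 0 - t 1 1) * t 0 0, (x 0 0 - x 1 1) / (t 0 0 - t 1 1), ?_⟩
      rw [h01] at e01
      rw [h10] at e10
      have hx01 : x 0 1 = 0 := by
        have : x 0 1 * (t 0 0 - t 1 1) = 0 := by linear_combination -e01
        exact (mul_eq_zero.1 this).resolve_right hd
      have hx10 : x 1 0 = 0 := by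
        have : x 1 0 * (t 0 0 - t 1 1) = 0 := by linear_combination e10
        exact (mul_eq_zero.1 this).resolve_right hd
      ext i j
      fin_cases i <;> fin_cases j <;> simp [h01, h10, hx01, hx10]
      field_simp
      ring
    · refine ⟨x 0 0 - x 1 0 / t 1 0 * t 0 0, x 1 0 / t 1 0, ?_⟩
      ext i j
      fin_cases i <;> fin_cases j <;> simp
      · field_simp
        linear_combination e00
      · field_simp
      · field_simp
        linear_combination e10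
  · refine ⟨x 0 0 - x 0 1 / t 0 1 * t 0 0, x 0 1 / t 0 1, ?_⟩
    ext i j
    fin_cases i <;> fin_cases j <;> simp
    · field_simp
    · field_simp
      linear_combination -e00
    · field_simp
      linear_combination -e01

/-- The multiplicity space of `6.A₇`. -/
theorem stage_neg {d₀ d₁ d₂ t x : R2} (h2 : (2 : F) ≠ 0) (h3 : (3 : F) ≠ 0) (ht : t = (3 : F) • (x * x))
    (htt : t * t = -1) (ht0 : t * d₀ = -(d₀ * t)) (ht2 : t * d₂ = -(d₁ * t))
    (h00 : d₀ * d₀ = -1) (h11 : d₁ * d₁ = -1) (h22 : d₂ * d₂ = -1) (h21 : d₂ * d₁ = d₀) (h02 : d₀ * d₂ = d₁)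
    (h10 : d₁ * d₀ = d₂) (hdet : (-3 * x.det) ^ 3 = 1) :
    ∃ α u : F, 2 * α ^ 2 = 1 ∧ 6 * u ^ 2 = -1 ∧ t = α • (d₁ - d₂) ∧ x = u • (1 - t) := by
  have hdsc : ¬ IsSc d₀ := by
    intro h
    have h4 := h.comm t
    rw [ht0] at h4
    have h5 : (2 : F) • (d₀ * t) = 0 := by
      rw [two_smul]
      nth_rewrite 1 [h4]
      exact neg_add_cancel _
    have h6 := (smul_eq_zero.1 h5).resolve_left h2
    have h7 : (d₀ * t) * t = 0 := by rw [h6, zero_mul]
    rw [mul_assoc, htt, mul_neg, mul_one] at h7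
    have h8 := neg_eq_zero.1 h7
    rw [h8, zero_mul] at h00
    have := congrFun (congrFun h00 0) 0
    simp at this
  have h01 : d₀ * d₁ = -d₂ := by
    rw [← h02, ← mul_assoc, h00, neg_mul, one_mul]
  have h20 : d₂ * d₀ = -d₁ := by
    have : d₂ * d₀ = d₂ * (d₂ * d₁) := by rw [h21]
    rw [this, ← mul_assoc, h22, neg_mul, one_mul]
  have h12 : d₁ * d₂ = -d₀ := by
    have : d₁ * d₂ = d₁ * (d₁ * d₀) := by rw [h10]
    rw [this, ← mul_assoc, h11, neg_mul, one_mul]
  -- `t (d₁ - d₂)` is a scalar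
  obtain ⟨c, hc⟩ : ∃ c : F, t * (d₁ - d₂) = c • 1 := by
    have e0 : t * (d₁ - d₂) * d₀ = d₀ * (t * (d₁ - d₂)) := by
      have e1 : (d₁ - d₂) * d₀ = -(d₀ * (d₁ - d₂)) := by
        rw [sub_mul, mul_sub, h10, h20, h01, h02]
        abel
      rw [mul_assoc, e1, mul_neg, ← mul_assoc, ht0, neg_mul, neg_neg, mul_assoc]
    obtain ⟨p, q, hpq⟩ := exists_uv hdsc e0
    have e2 : t * (d₁ - d₂) * d₁ = d₁ * (t * (d₁ - d₂)) := by
      have e3 : t * (d₁ - d₂) * d₁ = -(t * (1 + d₀)) := by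
        rw [mul_assoc, sub_mul, h11, h21, ← mul_neg]
        congr 1
        abel
      have e4 : d₁ * (t * (d₁ - d₂)) = -(t * (1 + d₀)) := by
        have e5 : d₁ * t = -(t * d₂) := by rw [ht2, neg_neg]
        rw [← mul_assoc, e5, neg_mul, mul_assoc, mul_sub, h21, h22]
        congr 2
        abel
      rw [e3, e4]
    rw [hpq, add_mul, mul_add, smul_mul_assoc, mul_smul_comm, smul_mul_assoc, mul_smul_comm, one_mul, mul_one, h01, h10] at e2
    have e6 : (2 * q) • d₂ = 0 := by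
      have : (2 * q) • d₂ = (p • d₁ + q • d₂) - (p • d₁ + q • -d₂) := by module
      rw [this, e2, sub_self]
    have e7 : q = 0 := by
      rcases smul_eq_zero.1 e6 with h | h
      · exact (mul_eq_zero.1 h).resolve_left h2
      · exfalso
        rw [h, zero_mul] at h22
        have := congrFun (congrFun h22 0) 0
        simp at this
    exact ⟨p, by rw [hpq, e7, zero_smul, add_zero]⟩
  have hD : (d₁ - d₂) * (d₁ - d₂) = (-2 : F) • 1 := by
    have : (d₁ - d₂) * (d₁ - d₂) = d₁ * d₁ - d₁ * d₂ - d₂ * d₁ + d₂ * d₂ := by noncomm_ring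
    rw [this, h11, h22, h12, h21]
    module
  have ht' : t = (-c / 2) • (d₁ - d₂) := by
    have e1 : t * (d₁ - d₂) * (d₁ - d₂) = c • (d₁ - d₂) := by rw [hc, smul_mul_assoc, one_mul]
    rw [mul_assoc, hD, mul_smul_comm, mul_one] at e1
    have e2 : t = (-2 : F)⁻¹ • ((-2 : F) • t) := by
      rw [smul_smul, inv_mul_cancel₀ (neg_ne_zero.2 h2), one_smul]
    rw [e2, e1, smul_smul]
    congr 1
    field_simp
  obtain ⟨α, hα⟩ : ∃ α : F, α = -c / 2 := ⟨_, rfl⟩
  rw [← hα] at ht'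
  have hα2 : 2 * α ^ 2 = 1 := by
    have e1 : t * t = (α * α * -2) • 1 := by
      rw [ht', smul_mul_smul_comm, hD, smul_smul]
    rw [htt] at e1
    have := congrFun (congrFun e1 0) 0
    simp at this
    linear_combination -this
  have htsc : ¬ IsSc t := by
    intro h
    have h4 := h.comm d₀
    rw [ht0] at h4
    have h5 : (2 : F) • (d₀ * t) = 0 := by
      rw [two_smul]
      nth_rewrite 1 [← h4]
      exact neg_add_cancel _
    have h6 := (smul_eq_zero.1 h5).resolve_left h2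
    have h7 : (d₀ * t) * t = 0 := by rw [h6, zero_mul]
    rw [mul_assoc, htt, mul_neg, mul_one] at h7
    exact hdsc ⟨0, by rw [neg_eq_zero.1 h7, zero_smul]⟩
  obtain ⟨u, v, hx⟩ := exists_uv htsc (show x * t = t * x by
    rw [ht, mul_smul_comm, smul_mul_assoc, mul_assoc])
  have hxx : x * x = (u * u - v * v) • 1 + (2 * u * v) • t := by
    rw [hx]
    have : (u • 1 + v • t) * (u • 1 + v • t) = (u * u) • (1 : R2) + (2 * u * v) • t + (v * v) • (t * t) := by
      simp only [add_mul, mul_add, smul_mul_assoc, mul_smul_comm, mul_one, one_mul]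
      module
    rw [this, htt]
    module
  have h4 : (6 * u * v - 1) • t + (3 * (u * u - v * v)) • (1 : R2) = 0 := by
    have : (6 * u * v - 1) • t + (3 * (u * u - v * v)) • (1 : R2) =
      (3 : F) • ((u * u - v * v) • 1 + (2 * u * v) • t) - t := by module
    rw [this, ← hxx, ← ht, sub_self]
  obtain ⟨h5, h6⟩ := coeff_zero htsc h4
  have h7 : u * u = v * v := sub_eq_zero.1 ((mul_eq_zero.1 h6).resolve_left h3)
  have htr : t.trace = 0 ∧ t.det = 1 := by
    have e1 := ch2 t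
    rw [htt] at e1
    have e2 : t.trace • t + (1 - t.det) • (1 : R2) = 0 := by
      have : t.trace • t + (1 - t.det) • (1 : R2) = (t.trace • t - t.det • 1) - (-1) := by module
      rw [this, ← e1, sub_self]
    obtain ⟨e3, e4⟩ := coeff_zero htsc e2
    exact ⟨e3, by linear_combination -e4⟩
  have hxdet : x.det = u * u + v * v := by
    have e1 : (u • (1 : R2) + v • t).det = u * u + u * v * t.trace + v * v * t.det := by
      rw [Matrix.det_fin_two, Matrix.det_fin_two, Matrix.trace_fin_two]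
      simp
      ring
    rw [hx, e1, htr.1, htr.2]
    ring
  rw [hxdet, ← h7] at hdet
  have h8 : v = -u ∧ 6 * u ^ 2 = -1 := by
    have h9 : (v - u) * (v + u) = 0 := by linear_combination -h7
    rcases mul_eq_zero.1 h9 with h | h
    · exfalso
      have e1 : v = u := sub_eq_zero.1 h
      rw [e1] at h5
      have e2 : -3 * (u * u + u * u) = -1 := by linear_combination -h5
      rw [e2] at hdet
      apply h2
      linear_combination -hdet
    · have e1 : v = -u := eq_neg_of_add_eq_zero_left h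
      refine ⟨e1, ?_⟩
      rw [e1] at h5
      linear_combination -h5
  refine ⟨α, u, hα2, h8.2, ht', ?_⟩
  rw [hx, h8.1]
  module

/-- the quaternion matrices -/
def Q0 : R2 := !![0, -1; 1, 0]
def Q1 (A B : F) : R2 := !![A, B; B, -A]
def Q2 (A B : F) : R2 := !![B, -A; -A, -B]

theorem Q10 (A B : F) : Q1 A B * Q0 = Q2 A B := by
  ext i j
  fin_cases i <;> fin_cases j <;> simp [Q0, Q1, Q2]

/-- Two anticommuting square roots of `-1`. -/
theorem quat_pair {d₀ d₁ : R2} (h2 : (2 : F) ≠ 0) {A B : F} (hAB : A ^ 2 + B ^ 2 = -1) (h00 : d₀ * d₀ = -1)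
    (h11 : d₁ * d₁ = -1) (h01 : d₀ * d₁ = -(d₁ * d₀)) : ∃ S : GL (Fin 2) F,
    d₀ * (S : R2) = (S : R2) * Q0 ∧ d₁ * (S : R2) = (S : R2) * Q1 A B := by
  have hne : d₁ - B • d₀ + A • 1 ≠ 0 := by
    intro h
    have e1 : d₁ = B • d₀ - A • 1 := by
      have : d₁ = (d₁ - B • d₀ + A • 1) + (B • d₀ - A • 1) := by abel
      rw [this, h, zero_add]
    have e2 : d₀ * d₁ = d₁ * d₀ := by
      rw [e1, mul_sub, sub_mul, mul_smul_comm, smul_mul_assoc, mul_smul_comm, smul_mul_assoc, mul_one, one_mul]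
    rw [h01] at e2
    have e3 : (2 : F) • (d₁ * d₀) = 0 := by
      rw [two_smul]
      nth_rewrite 1 [← e2]
      exact neg_add_cancel _
    have e4 := (smul_eq_zero.1 e3).resolve_left h2
    have e5 : d₁ * d₀ * d₀ = 0 := by rw [e4, zero_mul]
    rw [mul_assoc, h00, mul_neg, mul_one, neg_eq_zero] at e5
    rw [e5, zero_mul] at h11
    have := congrFun (congrFun h11 0) 0
    simp at this
  obtain ⟨w, hw⟩ : ∃ w : Fin 2 → F, (d₁ - B • d₀ + A • 1) *ᵥ w ≠ 0 := by
    by_contra hcon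
    push Not at hcon
    apply hne
    ext i j
    have := congrFun (hcon (Pi.single j 1)) i
    rwa [Matrix.mulVec_single_one] at this
  obtain ⟨v, hv⟩ : ∃ v, v = (d₁ - B • d₀ + A • 1) *ᵥ w := ⟨_, rfl⟩
  rw [← hv] at hw
  have hEE : (d₁ - B • d₀) * (d₁ - B • d₀ + A • 1) = A • (d₁ - B • d₀ + A • 1) := by
    have e1 : (d₁ - B • d₀) * (d₁ - B • d₀) = (A * A) • 1 := by
      have : (d₁ - B • d₀) * (d₁ - B • d₀) = d₁ * d₁ - B • (d₁ * d₀ + d₀ * d₁) + (B * B) • (d₀ * d₀) := by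
        simp only [sub_mul, mul_sub, smul_mul_assoc, mul_smul_comm]
        module
      rw [this, h11, h00, h01, add_neg_cancel, smul_zero, sub_zero]
      have e2 : -1 - B * B = A * A := by linear_combination -hAB
      rw [← e2]
      module
    rw [mul_add, e1, mul_smul_comm, mul_one]
    module
  have hEv : (d₁ - B • d₀) *ᵥ v = A • v := by
    rw [hv, Matrix.mulVec_mulVec, hEE, Matrix.smul_mulVec]
  have h1v : d₁ *ᵥ v = A • v + B • (d₀ *ᵥ v) := by
    rw [Matrix.sub_mulVec, Matrix.smul_mulVec] at hEv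
    rw [← hEv]
    abel
  have h00v : d₀ *ᵥ (d₀ *ᵥ v) = -v := by
    rw [Matrix.mulVec_mulVec, h00, Matrix.neg_mulVec, Matrix.one_mulVec]
  have h10v : d₁ *ᵥ (d₀ *ᵥ v) = B • v - A • (d₀ *ᵥ v) := by
    have e1 : d₁ * d₀ = -(d₀ * d₁) := by rw [h01, neg_neg]
    rw [Matrix.mulVec_mulVec, e1, Matrix.neg_mulVec, ← Matrix.mulVec_mulVec, h1v, Matrix.mulVec_add, Matrix.mulVec_smul,
      Matrix.mulVec_smul, h00v]
    module
  let S₀ : R2 := Matrix.of fun i j => if j = 0 then v i else (d₀ *ᵥ v) i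
  have c0 : ∀ i, S₀ i 0 = v i := fun i => rfl
  have c1 : ∀ i, S₀ i 1 = (d₀ *ᵥ v) i := fun i => rfl
  have hdet : S₀.det ≠ 0 := by
    intro hdet
    rw [← Matrix.exists_mulVec_eq_zero_iff] at hdet
    obtain ⟨y, hy, hy0⟩ := hdet
    have e1 : y 0 • v + y 1 • (d₀ *ᵥ v) = 0 := by
      funext i
      have := congrFun hy0 i
      rw [Matrix.mulVec, dotProduct, Fin.sum_univ_two, c0, c1] at this
      rw [Pi.add_apply, Pi.smul_apply, Pi.smul_apply, smul_eq_mul, smul_eq_mul, mul_comm, mul_comm (y 1)]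
      exact this
    by_cases hy1 : y 1 = 0
    · rw [hy1, zero_smul, add_zero] at e1
      rcases smul_eq_zero.1 e1 with h2 | h2
      · apply hy
        funext i
        fin_cases i
        · exact h2
        · exact hy1
      · exact hw h2
    · obtain ⟨l, hl⟩ : ∃ l : F, d₀ *ᵥ v = l • v := by
        refine ⟨-((y 1)⁻¹ * y 0), ?_⟩
        have e2 : (y 1)⁻¹ • (y 0 • v + y 1 • (d₀ *ᵥ v)) = 0 := by rw [e1, smul_zero]
        rw [smul_add, smul_smul, smul_smul, inv_mul_cancel₀ hy1, one_smul] at e2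
        rw [neg_smul]
        exact eq_neg_of_add_eq_zero_right e2
      rw [hl, Matrix.mulVec_smul, hl, smul_smul] at h00v
      rw [hl, Matrix.mulVec_smul, h1v, hl] at h10v
      have e3 : (l * l + 1) • v = 0 := by
        rw [add_smul, h00v, one_smul, neg_add_cancel]
      have e4 : (2 * l * A + B * (l * l - 1)) • v = 0 := by
        have : (2 * l * A + B * (l * l - 1)) • v = l • (A • v + B • l • v) - (B • v - A • l • v) := by module
        rw [this, h10v, sub_self]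
      have e5 := (smul_eq_zero.1 e3).resolve_right hw
      have e6 := (smul_eq_zero.1 e4).resolve_right hw
      have e7 : 2 * (l * A - B) = 0 := by linear_combination e6 - B * e5
      have e8 := (mul_eq_zero.1 e7).resolve_left h2
      exact one_ne_zero (α := F) (by linear_combination (1 : F) * hAB + (l * A + B) * e8 + (-A ^ 2) * e5)
  let S : GL (Fin 2) F := Matrix.GeneralLinearGroup.mkOfDetNeZero S₀ hdet
  have hS : (S : R2) = S₀ := rfl
  refine ⟨S, ?_, ?_⟩
  · rw [hS]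
    ext i j
    have key : ∀ j, (d₀ * S₀) i j = (d₀ *ᵥ fun i => S₀ i j) i := fun j => rfl
    rw [key, Matrix.mul_apply, Fin.sum_univ_two, c0, c1]
    fin_cases j
    · show (d₀ *ᵥ v) i = _
      simp [Q0]
    · show (d₀ *ᵥ (d₀ *ᵥ v)) i = _
      rw [h00v]
      simp [Q0]
  · rw [hS]
    ext i j
    have key : ∀ j, (d₁ * S₀) i j = (d₁ *ᵥ fun i => S₀ i j) i := fun j => rfl
    rw [key, Matrix.mul_apply, Fin.sum_univ_two, c0, c1]
    fin_cases j
    · show (d₁ *ᵥ v) i = _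
      rw [h1v]
      generalize d₀ *ᵥ v = z
      simp [Q1, mul_comm]
    · show (d₁ *ᵥ (d₀ *ᵥ v)) i = _
      rw [h10v]
      generalize d₀ *ᵥ v = z
      simp [Q1, mul_comm, sub_eq_add_neg]

end two

section nf

variable {F : Type*} [Field F]

local notation "R2" => Matrix (Fin 2) (Fin 2) F
local notation "M3" => Matrix (Fin 3) (Fin 3) (Matrix (Fin 2) (Fin 2) F)
local notation "M6" => Matrix (Fin 6) (Fin 6) F

/-- the matrix `x` -/
def xneg (A B α u : F) : R2 := u • (1 - α • (Q1 A B - Q2 A B))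

/-- **Normal form of `6.A₇`.** -/
theorem normal_form_neg {ω : Fˣ} {a b k g : GL (Fin 6) F} (h : Rel (-1) ω a b k g) (hω : (ω : F) ^ 2 + ω + 1 = 0)
    (h2 : (2 : F) ≠ 0) (h3 : (3 : F) ≠ 0) (hdet : (g : M6).det = 1) {A B : F} (hAB : A ^ 2 + B ^ 2 = -1) :
    ∃ (T : GL (Fin 6) F) (α u : F), 2 * α ^ 2 = 1 ∧ 6 * u ^ 2 = -1 ∧ Im T a (a3 (ω : F)) ∧ Im T b b3 ∧
      Im T k (dg Q0 (Q1 A B) (Q2 A B)) ∧ Im T g (gm (ω : F) (xneg A B α u)) := by
  obtain ⟨T, hTa, hTb⟩ := exists_block (A := (a : M6)) (B := (b : M6)) (ω := (ω : F))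
    (by rw [← Units.val_pow_eq_pow_val, h.a3]; rfl) (by rw [← Units.val_pow_eq_pow_val, h.b3]; rfl)
    (by
      have h1 := congrArg (fun g : GL (Fin 6) F => (g : M6)) h.ab
      simp only [Units.val_mul, coe_sc, Matrix.smul_mul, Matrix.one_mul] at h1
      exact h1) hω h3
  have hA : Im T a (a3 (ω : F)) := hTa
  have hB : Im T b b3 := hTb
  obtain ⟨k', hK⟩ := Im.exists T k
  obtain ⟨g', hG⟩ := Im.exists T g
  obtain ⟨ga', gb', k2', g4', ka', sk', v4', -⟩ := h.mat
  rw [Units.val_neg, Units.val_one] at k2' g4' sk'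
  have e1 := (hK.mul hA).eq_of (hA.mul hK) ka'
  have e2 := (hG.mul hA).eq_of (hB.mul hG) ga'
  have e3 := (hA.mul (hG.mul hB)).eq_of hG gb'
  have e4 := (hK.mul hK).eq_of ((Im.one T).smul (-1)) k2'
  have e5 := ((hG.mul hG).mul (hG.mul hG)).eq_of ((Im.one T).smul (-1)) g4'
  have e6 := ((hG.mul hG).mul hK).eq_of ((hK.mul (hG.mul hG)).smul (-1)) sk'
  have e7 := (((hK.mul hB).mul hK).mul hB).eq_of (hB.mul (hB.mul hK)) v4'
  rw [neg_smul, one_smul] at e4 e5 e6
  obtain ⟨x, d₀, d₁, d₂, t, hk, hg, ht, hgg, htt, ht0, ht2, ht1, h00, h11, h22, h21, h02, h10⟩ :=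
    stage_one_neg hω h3 e1 e2 e3 e4 e5 e6 e7
  obtain ⟨α, u, hα, hu, ht', hx⟩ := stage_neg h2 h3 ht htt ht0 ht2 h00 h11 h22 h21 h02 h10
    (by rw [← det_rho_gm hω, ← hg, ← hG.det, hdet])
  have h01 : d₀ * d₁ = -(d₁ * d₀) := by
    rw [h10, ← h02, ← mul_assoc, h00, neg_mul, one_mul]
  obtain ⟨S, hS0, hS1⟩ := quat_pair h2 hAB h00 h11 h01
  obtain ⟨D, hD⟩ := exists_dg S
  rw [hk] at hK
  rw [hg] at hG
  have hS2 : d₂ * (S : R2) = (S : R2) * Q2 A B := by
    rw [← h10, mul_assoc, hS0, ← mul_assoc, hS1, mul_assoc, Q10]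
  generalize (S : R2) = τ at hS0 hS1 hS2 hD
  refine ⟨T * D, α, u, hα, hu, dg_comm hA hD (dg_a3 _ _).symm, dg_comm hB hD (dg_b3 _).symm, dg_comm hK hD ?_,
    dg_comm hG hD ?_⟩
  · rw [dg_mul, dg_mul, hS0, hS1, hS2]
  · have h4 := gm_dg hω (x := x) (τ := τ) (x' := xneg A B α u) (κ := 1) (by
      rw [one_smul, hx, ht', xneg, smul_mul_assoc, mul_smul_comm, sub_mul, mul_sub, one_mul, mul_one, smul_mul_assoc,
        mul_smul_comm, sub_mul, mul_sub, hS1, hS2])
    rw [one_smul] at h4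
    exact h4

end nf

end Cfsg.Agent.H890.A7
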