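import Cfsg.Agent.H890.K6Lines
import Cfsg.Agent.H890.A7.Norm

/-!
# `3.A₇` : the stabiliser of the 126 lines (helper890)
-/

set_option autoImplicit false
set_option linter.unusedSectionVars false

namespace Cfsg.Agent.H890.A7

open Matrix Cfsg.Agent.H913.N6 Cfsg.Agent.H890.K6

variable {F : Type*} [Field F]

local notation "R2" => Matrix (Fin 2) (Fin 2) F
local notation "M3" => Matrix (Fin 3) (Fin 3) (Matrix (Fin 2) (Fin 2) F)
local notation "M6" => Matrix (Fin 6) (Fin 6) F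

theorem entries_iff {M : M6} {N : M3} (hM : M = rho N) {θ : F} {T : ℕ → ℕ → E} {ω : F}
    (h : ∀ (i i' : Fin 3) (j j' : Fin 2), θ * N i i' j j' = ev ω (T (j + 2 * i) (j' + 2 * i'))) (r s : Fin 6) :
    θ * M r s = ev ω (T r s) := by
  obtain ⟨⟨i, j⟩, rfl⟩ := (finProdFinEquiv : Fin 3 × Fin 2 ≃ Fin 6).surjective r
  obtain ⟨⟨i', j'⟩, rfl⟩ := (finProdFinEquiv : Fin 3 × Fin 2 ≃ Fin 6).surjective s
  rw [hM, rho_apply, Equiv.symm_apply_apply, Equiv.symm_apply_apply]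
  exact h i i' j j'

theorem ent_A {ω : F} (hω : ω ^ 2 + ω + 1 = 0) (r s : Fin 6) : 1 * rho (a3 ω) r s = ev ω (ME_A r s) := by
  refine entries_iff rfl (fun i i' j j' => ?_) r s
  have h2 : ω ^ 2 = -1 - ω := by linear_combination hω
  rcases fin3 i with rfl | rfl | rfl <;> rcases fin3 i' with rfl | rfl | rfl <;> fin_cases j <;> fin_cases j' <;>
    simp [a3_apply, ME_A, pwE, ev, h2] <;> ring

theorem ent_B {ω : F} (r s : Fin 6) : 1 * rho (b3 : M3) r s = ev ω (ME_B r s) := by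
  refine entries_iff rfl (fun i i' j j' => ?_) r s
  rcases fin3 i with rfl | rfl | rfl <;> rcases fin3 i' with rfl | rfl | rfl <;> fin_cases j <;> fin_cases j' <;>
    simp [b3_apply, ME_B, ev]

theorem ent_K {ω : F} (hω : ω ^ 2 + ω + 1 = 0) (r s : Fin 6) : 1 * rho (dg 1 (d0 ω) (d0 ω)) r s = ev ω (ME_K r s) := by
  refine entries_iff rfl (fun i i' j j' => ?_) r s
  have h2 : ω ^ 2 = -1 - ω := by linear_combination hω
  rcases fin3 i with rfl | rfl | rfl <;> rcases fin3 i' with rfl | rfl | rfl <;> fin_cases j <;> fin_cases j' <;>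
    simp [dg, d0, ME_K, ev, h2] <;> ring

theorem ent_G {ω ε : F} (hω : ω ^ 2 + ω + 1 = 0) (h3 : (3 : F) ≠ 0) (hε : ε ^ 2 = 1) (r s : Fin 6) :
    (ε * (ω - ω ^ 2)) * rho (ε • gm ω (x0 ω)) r s = ev ω (ME_G r s) := by
  refine entries_iff rfl (fun i i' j j' => ?_) r s
  have hθ := theta_ne hω h3
  have h1 : (ε * (ω - ω ^ 2)) * (ε • gm ω (x0 ω)) i i' j j' =
      ω ^ (2 * (i : ℕ) * (i' : ℕ)) * (!![0, -1; 1, 0] : R2) j j' := by
    show (ε * (ω - ω ^ 2)) * (ε * (ω ^ (2 * (i : ℕ) * (i' : ℕ)) * ((ω - ω ^ 2)⁻¹ * (!![0, -1; 1, 0] : R2) j j'))) = _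
    have : (ε * (ω - ω ^ 2)) * (ε * (ω ^ (2 * (i : ℕ) * (i' : ℕ)) * ((ω - ω ^ 2)⁻¹ * (!![0, -1; 1, 0] : R2) j j'))) =
      ε ^ 2 * ((ω - ω ^ 2) * (ω - ω ^ 2)⁻¹) * (ω ^ (2 * (i : ℕ) * (i' : ℕ)) * (!![0, -1; 1, 0] : R2) j j') := by ring
    rw [this, hε, mul_inv_cancel₀ hθ, one_mul, one_mul]
  rw [h1]
  have h2 : ω ^ 2 = -1 - ω := by linear_combination hω
  have h4 : ω ^ 4 = ω := by linear_combination (ω ^ 2 - ω) * hω
  have h8 : ω ^ 8 = -1 - ω := by linear_combination (ω ^ 6 - ω ^ 5 + ω ^ 3 - ω ^ 2 + 1) * hω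
  rcases fin3 i with rfl | rfl | rfl <;> rcases fin3 i' with rfl | rfl | rfl <;> fin_cases j <;> fin_cases j' <;>
    simp [ME_G, ev, pwE, negE, h2, h4, h8]
  all_goals ring

/-- `diag(ω, ω², 1, 1, 1, 1)` -/
def dD (ω : F) : M3 := dg !![ω, 0; 0, ω ^ 2] 1 1

theorem ent_D {ω : F} (hω : ω ^ 2 + ω + 1 = 0) (r s : Fin 6) : 1 * rho (dD ω) r s = ev ω (ME_D r s) := by
  refine entries_iff rfl (fun i i' j j' => ?_) r s
  have h2 : ω ^ 2 = -1 - ω := by linear_combination hω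
  rcases fin3 i with rfl | rfl | rfl <;> rcases fin3 i' with rfl | rfl | rfl <;> fin_cases j <;> fin_cases j' <;>
    simp [dD, dg, ME_D, ev, h2] <;> ring

/-- the stabiliser of the 126 lines -/
def X [Finite F] (ω : F) : Subgroup (GL (Fin 6) F) where
  carrier := {g | ∀ v, IsLine ω v → IsLine ω ((g : M6) *ᵥ v)}
  one_mem' := fun v hv => by rw [Units.val_one, Matrix.one_mulVec]; exact hv
  mul_mem' := fun {a b} ha hb v hv => by
    rw [Units.val_mul, ← Matrix.mulVec_mulVec]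
    exact ha _ (hb _ hv)
  inv_mem' := fun {a} ha => by
    have key : ∀ n : ℕ, ∀ v, IsLine ω v → IsLine ω (((a ^ n : GL (Fin 6) F) : M6) *ᵥ v) := by
      intro n
      induction n with
      | zero => intro v hv; rw [pow_zero, Units.val_one, Matrix.one_mulVec]; exact hv
      | succ n ih =>
        intro v hv
        rw [pow_succ, Units.val_mul, ← Matrix.mulVec_mulVec]
        exact ih _ (ha _ hv)
    have h1 : a⁻¹ = a ^ (orderOf a - 1) := by
      rw [inv_eq_iff_mul_eq_one, ← pow_succ', Nat.sub_add_cancel (orderOf_pos a), pow_orderOf_eq_one]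
    change ∀ v, IsLine ω v → IsLine ω (((a⁻¹ : GL (Fin 6) F) : M6) *ᵥ v)
    rw [h1]
    exact key _

theorem mem_X [Finite F] {ω : F} {g : GL (Fin 6) F} : g ∈ X ω ↔ ∀ v, IsLine ω v → IsLine ω ((g : M6) *ᵥ v) := Iff.rfl

theorem sc_mem_X [Finite F] (ω : F) (c : Fˣ) : (sc c : GL (Fin 6) F) ∈ X ω := by
  rintro v ⟨n, hn, d, hd, h⟩
  refine ⟨n, hn, c * d, mul_ne_zero c.ne_zero hd, fun s => ?_⟩
  rw [coe_sc, Matrix.smul_mulVec, Matrix.one_mulVec, Pi.smul_apply, smul_eq_mul, h, mul_assoc]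

/-! ### an element outside -/

/-- `-DFT ⊕ 1` -/
def Wn (ω : F) : M6 :=
  (Matrix.fromBlocks (-(ω - ω ^ 2)⁻¹ • Wm ω) 0 0 1).submatrix (finSumFinEquiv (m := 3) (n := 3)).symm
    (finSumFinEquiv (m := 3) (n := 3)).symm

theorem det_Wm' {ω : F} (hω : ω ^ 2 + ω + 1 = 0) : (Wm ω).det = 3 * (ω - ω ^ 2) := by
  have hω3 := omega_cube hω
  rw [Matrix.det_fin_three]
  have e : ∀ i j : Fin 3, Wm ω i j = ω ^ (2 * (i : ℕ) * (j : ℕ)) := fun i j => rfl
  rw [e, e, e, e, e, e, e, e, e]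
  simp only [Fin.val_zero, Fin.val_one, Fin.val_two, mul_zero, zero_mul, pow_zero, mul_one, one_mul]
  linear_combination ((ω ^ 7 + ω ^ 4 + ω) - 2 * (ω ^ 5 + ω ^ 2) + 2 * ω) * hω3

theorem det_Wn {ω : F} (hω : ω ^ 2 + ω + 1 = 0) (h3 : (3 : F) ≠ 0) : (Wn ω).det = 1 := by
  have hθ := theta_ne hω h3
  rw [Wn, Matrix.det_submatrix_equiv_self, Matrix.det_fromBlocks_zero₂₁, Matrix.det_one, mul_one, Matrix.det_smul,
    Fintype.card_fin, det_Wm' hω]
  have h1 : (3 : F) = -((ω - ω ^ 2) * (ω - ω ^ 2)) := by rw [theta_sq hω]; ring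
  rw [h1]
  generalize ω - ω ^ 2 = t at hθ
  field_simp

theorem vl (i : Fin 3) : ((finSumFinEquiv (m := 3) (n := 3) (Sum.inl i) : Fin 6) : ℕ) = i := rfl
theorem vr (i : Fin 3) : ((finSumFinEquiv (m := 3) (n := 3) (Sum.inr i) : Fin 6) : ℕ) = 3 + i := rfl

theorem Wn_mulVec {ω : F} (s : Fin 6) : (Wn ω *ᵥ (fun s : Fin 6 => ev ω (ln 6 s))) s =
    if (s : ℕ) < 3 then -(ω - ω ^ 2)⁻¹ else if (s : ℕ) = 3 then -1 else 0 := by
  rw [Matrix.mulVec, dotProduct, ← (finSumFinEquiv (m := 3) (n := 3)).sum_comp, Fintype.sum_sum_type]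
  have hl : ∀ i : Fin 3, ev ω (ln 6 ((finSumFinEquiv (m := 3) (n := 3) (Sum.inl i) : Fin 6) : ℕ)) =
      if i = 0 then 1 else 0 := by
    intro i
    rw [vl]
    rcases fin3 i with rfl | rfl | rfl <;> simp [ln, pairs, ev]
  have hr : ∀ i : Fin 3, ev ω (ln 6 ((finSumFinEquiv (m := 3) (n := 3) (Sum.inr i) : Fin 6) : ℕ)) =
      if i = 0 then -1 else 0 := by
    intro i
    rw [vr]
    rcases fin3 i with rfl | rfl | rfl <;> simp [ln, pairs, ev, negE, pwE]
  simp only [hl, hr]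
  obtain ⟨s', rfl⟩ := (finSumFinEquiv (m := 3) (n := 3)).surjective s
  rcases s' with i | i
  · have h1 : ∀ j, Wn ω (finSumFinEquiv (m := 3) (n := 3) (Sum.inl i)) (finSumFinEquiv (m := 3) (n := 3) (Sum.inl j)) =
      -(ω - ω ^ 2)⁻¹ * ω ^ (2 * (i : ℕ) * (j : ℕ)) := by
      intro j
      rw [Wn, Matrix.submatrix_apply, Equiv.symm_apply_apply, Equiv.symm_apply_apply]
      rfl
    have h2 : ∀ j, Wn ω (finSumFinEquiv (m := 3) (n := 3) (Sum.inl i)) (finSumFinEquiv (m := 3) (n := 3) (Sum.inr j)) = 0 := by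
      intro j
      rw [Wn, Matrix.submatrix_apply, Equiv.symm_apply_apply, Equiv.symm_apply_apply]
      rfl
    simp only [h1, h2, zero_mul, Finset.sum_const_zero, add_zero]
    rw [Fin.sum_univ_three]
    rw [vl, if_pos i.2]
    simp
  · have h1 : ∀ j, Wn ω (finSumFinEquiv (m := 3) (n := 3) (Sum.inr i)) (finSumFinEquiv (m := 3) (n := 3) (Sum.inl j)) = 0 := by
      intro j
      rw [Wn, Matrix.submatrix_apply, Equiv.symm_apply_apply, Equiv.symm_apply_apply]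
      rfl
    have h2 : ∀ j, Wn ω (finSumFinEquiv (m := 3) (n := 3) (Sum.inr i)) (finSumFinEquiv (m := 3) (n := 3) (Sum.inr j)) =
        if i = j then 1 else 0 := by
      intro j
      rw [Wn, Matrix.submatrix_apply, Equiv.symm_apply_apply, Equiv.symm_apply_apply]
      rfl
    simp only [h1, h2, zero_mul, Finset.sum_const_zero, zero_add]
    rw [vr]
    rcases fin3 i with rfl | rfl | rfl <;> simp

theorem Wn_not {ω : F} (hω : ω ^ 2 + ω + 1 = 0) (h3 : (3 : F) ≠ 0) :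
    ¬ ∀ v, IsLine ω v → IsLine ω (Wn ω *ᵥ v) := by
  intro h
  have h1 := h (fun s : Fin 6 => ev ω (ln 6 s)) ⟨6, by norm_num, 1, one_ne_zero, fun s => by rw [one_mul]⟩
  obtain ⟨n, hn, c, hc, h2⟩ := h1
  simp only [Wn_mulVec] at h2
  have hθ := theta_ne hω h3
  have h4 := List.all_eq_true.1 no_ln n (List.mem_range.2 hn)
  have h5 := List.all_eq_true.1 units_ln n (List.mem_range.2 hn)
  rw [List.all_eq_true] at h5
  have e0 : ln n 0 ≠ (0, 0) := by
    intro h0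
    have := h2 0
    simp [h0, ev_zero] at this
    exact hθ this
  have e1 : ln n 1 ≠ (0, 0) := by
    intro h0
    have := h2 1
    simp [h0, ev_zero] at this
    exact hθ this
  have e2 : ln n 2 ≠ (0, 0) := by
    intro h0
    have := h2 2
    simp [h0, ev_zero] at this
    exact hθ this
  have e4 : ln n 4 = (0, 0) := by
    have h6 := h5 4 (List.mem_range.2 (by norm_num))
    rw [Bool.or_eq_true, beq_iff_eq] at h6
    rcases h6 with h6 | h6
    · exact h6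
    · exfalso
      have := h2 4
      simp at this
      rcases this with h7 | h7
      · exact hc h7
      · exact ev_ne_zero hω h3 (x := ln n 4) (by rw [nz, h6]; rfl) h7
  simp [e0, e1, e2, e4] at h4

end Cfsg.Agent.H890.A7
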