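import Cfsg.Agent.H907.FieldAdj
import Cfsg.Agent.H890.A7.XLines

/-!
# `3.A₇` : the unitary form (helper890)
-/

set_option autoImplicit false
set_option linter.unusedSectionVars false

namespace Cfsg.Agent.H890.A7

open Matrix Cfsg.Agent.H913.N6 Cfsg.Agent.H890.K6 Cfsg.Agent.H907 Cfsg.Agent.LieClassical.HermBasic

variable {F : Type*} [Field F] [Fintype F] {q : ℕ} (hF : Fintype.card F = q ^ 2)

local notation "R2" => Matrix (Fin 2) (Fin 2) F
local notation "M3" => Matrix (Fin 3) (Fin 3) (Matrix (Fin 2) (Fin 2) F)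
local notation "M6" => Matrix (Fin 6) (Fin 6) F

/-- conjugate transpose for block matrices -/
def dag (q : ℕ) (M : M3) : M3 := Matrix.of fun i j => ct q (M j i)

theorem ct_rho (M : M3) : ct q (rho M) = rho (dag q M) := by
  ext r s
  rfl

theorem dag_apply (M : M3) (i j : Fin 3) : dag q M i j = ct q (M j i) := rfl

theorem sq_eq_one_iff_of_side {ε : F} (hε : ε ^ 2 = 1) : ε = 1 ∨ ε = -1 := by
  have : (ε - 1) * (ε + 1) = 0 := by linear_combination hε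
  rcases mul_eq_zero.1 this with h | h
  · exact Or.inl (sub_eq_zero.1 h)
  · exact Or.inr (eq_neg_of_add_eq_zero_left h)

include hF

theorem dag_dg (x y z : R2) : dag q (dg x y z) = dg (ct q x) (ct q y) (ct q z) := by
  obtain ⟨X00, X01, X02, X10, X11, X12, X20, X21, X22⟩ := dg_entries x y z
  obtain ⟨Z00, Z01, Z02, Z10, Z11, Z12, Z20, Z21, Z22⟩ := dg_entries (ct q x) (ct q y) (ct q z)
  apply ext3 <;> simp only [dag_apply, X00, X01, X02, X10, X11, X12, X20, X21, X22, Z00, Z01, Z02, Z10, Z11, Z12, Z20,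
    Z21, Z22, ct_zero hF]

theorem ct_smul {n : ℕ} (c : F) (A : Matrix (Fin n) (Fin n) F) : ct q (c • A) = c ^ q • ct q A := by
  ext i j
  simp [ct, mul_pow]

theorem a3_eq_dg (ω : F) : (a3 ω : M3) = dg 1 (ω • 1) (ω ^ 2 • 1) := by
  obtain ⟨Z00, Z01, Z02, Z10, Z11, Z12, Z20, Z21, Z22⟩ := dg_entries (1 : R2) (ω • 1) (ω ^ 2 • 1)
  apply ext3 <;> simp only [a3_apply, Z00, Z01, Z02, Z10, Z11, Z12, Z20, Z21, Z22] <;> simp

variable {ω : F}

theorem un_a3 (hω : ω ^ 2 + ω + 1 = 0) (hq : ω ^ q = ω ^ 2) : dag q (a3 ω : M3) * a3 ω = 1 := by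
  have hω3 := omega_cube hω
  rw [a3_eq_dg hF, dag_dg hF, dg_mul, ct_one hF, ct_smul_one hF, ct_smul_one hF, ← dg_one]
  congr 1
  · rw [one_mul]
  · rw [smul_mul_smul_comm, one_mul, hq, ← pow_succ, hω3, one_smul]
  · rw [smul_mul_smul_comm, one_mul, ← pow_mul, mul_comm 2 q, pow_mul, hq, ← pow_mul, ← pow_add]
    rw [show 2 * 2 + 2 = 3 * 2 by norm_num, pow_mul, hω3, one_pow, one_smul]

theorem un_b3 : dag q (b3 : M3) * b3 = 1 := by
  have e : dag q (b3 : M3) = Matrix.of fun i j : Fin 3 => if j = i + 1 then 1 else 0 := by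
    ext1 i j
    rw [dag_apply, b3_apply, Matrix.of_apply]
    split_ifs
    · exact ct_one hF
    · exact ct_zero hF
  rw [e]
  ext1 i j
  rw [mul_b3, Matrix.of_apply, Matrix.one_apply]
  by_cases h : i = j
  · rw [if_pos (by rw [h]), if_pos h]
  · rw [if_neg (fun h' => h (add_right_cancel h').symm), if_neg h]

theorem ct_d0 (hω : ω ^ 2 + ω + 1 = 0) (hq : ω ^ q = ω ^ 2) : ct q (d0 ω) = d0 ω := by
  have hω3 := omega_cube hω
  have h1 : (ω ^ 2) ^ q = ω := by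
    rw [← pow_mul, mul_comm 2 q, pow_mul, hq]
    linear_combination ω * hω3
  ext i j
  fin_cases i <;> fin_cases j <;> simp [ct, d0, zero_pow_q hF, hq, h1]

theorem un_k (hω : ω ^ 2 + ω + 1 = 0) (hq : ω ^ q = ω ^ 2) : dag q (dg 1 (d0 ω) (d0 ω)) * dg 1 (d0 ω) (d0 ω) = 1 := by
  rw [dag_dg hF, dg_mul, ct_d0 hF hω hq, d0_sq hω, ct_one hF, one_mul, dg_one]

theorem un_D (hω : ω ^ 2 + ω + 1 = 0) (hq : ω ^ q = ω ^ 2) : dag q (dD ω) * dD ω = 1 := by
  have hω3 := omega_cube hω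
  rw [dD, dag_dg hF, dg_mul, ct_one hF, one_mul, ← dg_one]
  congr 1
  have h1 : (ω ^ 2) ^ q = ω := by
    rw [← pow_mul, mul_comm 2 q, pow_mul, hq]
    linear_combination ω * hω3
  ext i j
  fin_cases i <;> fin_cases j <;> simp [ct, zero_pow_q hF, hq, h1, Matrix.mul_apply, Fin.sum_univ_two]
  · linear_combination hω3
  · linear_combination hω3

theorem ct_x0 (hω : ω ^ 2 + ω + 1 = 0) (hq : ω ^ q = ω ^ 2) : ct q (x0 ω) = x0 ω := by
  have hω3 := omega_cube hω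
  have h1 : (ω ^ 2) ^ q = ω := by
    rw [← pow_mul, mul_comm 2 q, pow_mul, hq]
    linear_combination ω * hω3
  have h2 : (ω - ω ^ 2) ^ q = -(ω - ω ^ 2) := by rw [sub_pow_q hF, h1, hq]; ring
  rw [x0, ct_smul hF, inv_pow, h2]
  have h5 : (ω ^ 2 - ω)⁻¹ = -(ω - ω ^ 2)⁻¹ := by rw [← neg_sub ω, inv_neg]
  ext i j
  fin_cases i <;> fin_cases j <;> simp [ct, zero_pow_q hF, neg_pow_q hF, h5]

theorem dag_gm (hq : ω ^ q = ω ^ 2) (x : R2) : dag q (gm ω x) = gm (ω ^ 2) (ct q x) := by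
  ext1 i j
  show ct q (ω ^ (2 * (j : ℕ) * (i : ℕ)) • x) = (ω ^ 2) ^ (2 * (i : ℕ) * (j : ℕ)) • ct q x
  rw [ct_smul hF, ← pow_mul, mul_comm _ q, pow_mul, hq]
  congr 2
  ring

theorem gm_sq_mul (hω : ω ^ 2 + ω + 1 = 0) (x y : R2) :
    gm (ω ^ 2) x * gm ω y = dg ((3 : F) • (x * y)) ((3 : F) • (x * y)) ((3 : F) • (x * y)) := by
  have hω' : (ω ^ 2) ^ 2 + ω ^ 2 + 1 = 0 := by linear_combination (ω ^ 2 - ω + 1) * hω
  obtain ⟨a00, a01, a02, a10, a11, a12, a20, a21, a22⟩ := gm_entries hω' x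
  obtain ⟨b00, b01, b02, b10, b11, b12, b20, b21, b22⟩ := gm_entries hω y
  obtain ⟨d00, d01, d02, d10, d11, d12, d20, d21, d22⟩ :=
    dg_entries ((3 : F) • (x * y)) ((3 : F) • (x * y)) ((3 : F) • (x * y))
  have hω3 := omega_cube hω
  have h4 : (ω ^ 2) ^ 2 = ω := by linear_combination ω * hω3
  have h1 : (ω * ω ^ 2 + ω ^ 2 * ω + 1 : F) = 3 := by linear_combination 2 * hω3
  have h2 : (1 + ω * ω + ω ^ 2 * ω ^ 2 : F) = 0 := by linear_combination hω + ω * hω3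
  apply ext3 <;> rw [mul3] <;>
    simp only [a00, a01, a02, a10, a11, a12, a20, a21, a22, b00, b01, b02, b10, b11, b12, b20, b21, b22, h4,
      d00, d01, d02, d10, d11, d12, d20, d21, d22, smul_mul_assoc, mul_smul_comm, smul_smul]
  · module
  · calc _ = (ω ^ 2 + ω + 1) • (x * y) := by module
      _ = 0 := by rw [hω, zero_smul]
  · calc _ = (ω ^ 2 + ω + 1) • (x * y) := by module
      _ = 0 := by rw [hω, zero_smul]
  · calc _ = (ω ^ 2 + ω + 1) • (x * y) := by module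
      _ = 0 := by rw [hω, zero_smul]
  · calc _ = (ω * ω ^ 2 + ω ^ 2 * ω + 1) • (x * y) := by module
      _ = _ := by rw [h1]
  · calc _ = (1 + ω * ω + ω ^ 2 * ω ^ 2) • (x * y) := by module
      _ = 0 := by rw [h2, zero_smul]
  · calc _ = (ω ^ 2 + ω + 1) • (x * y) := by module
      _ = 0 := by rw [hω, zero_smul]
  · calc _ = (1 + ω * ω + ω ^ 2 * ω ^ 2) • (x * y) := by module
      _ = 0 := by rw [h2, zero_smul]
  · calc _ = (ω * ω ^ 2 + ω ^ 2 * ω + 1) • (x * y) := by module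
      _ = _ := by rw [h1]

theorem un_g (hω : ω ^ 2 + ω + 1 = 0) (h3 : (3 : F) ≠ 0) (hq : ω ^ q = ω ^ 2) {ε : F} (hε : ε ^ 2 = 1) :
    dag q (ε • gm ω (x0 ω)) * (ε • gm ω (x0 ω)) = 1 := by
  have h1 : dag q (ε • gm ω (x0 ω)) = ε ^ q • gm (ω ^ 2) (x0 ω) := by
    rw [← ct_x0 hF hω hq, ← dag_gm hF hq, ct_x0 hF hω hq]
    ext1 i j
    rw [dag_apply, Matrix.smul_apply, Matrix.smul_apply, dag_apply, ct_smul hF]
  have h2 : ε ^ q * ε = 1 := by
    rcases sq_eq_one_iff_of_side hε with h | h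
    · rw [h, one_pow, mul_one]
    · rw [h, neg_pow_q hF, one_pow]; ring
  rw [h1, Matrix.smul_mul, Matrix.mul_smul, smul_smul, h2, one_smul, gm_sq_mul hF hω, x0_sq hω h3, dg_one]

/-- `(−θ⁻¹ DFT)` is unitary -/
theorem un_W (hω : ω ^ 2 + ω + 1 = 0) (h3 : (3 : F) ≠ 0) (hq : ω ^ q = ω ^ 2) :
    ct q (-(ω - ω ^ 2)⁻¹ • Wm ω) * (-(ω - ω ^ 2)⁻¹ • Wm ω) = 1 := by
  have hω3 := omega_cube hω
  have hθ := theta_ne hω h3
  have h1 : (ω ^ 2) ^ q = ω := by
    rw [← pow_mul, mul_comm 2 q, pow_mul, hq]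
    linear_combination ω * hω3
  have h2 : (ω - ω ^ 2) ^ q = -(ω - ω ^ 2) := by rw [sub_pow_q hF, h1, hq]; ring
  rw [ct_smul hF, neg_pow_q hF, inv_pow, h2, Matrix.smul_mul, Matrix.mul_smul, smul_smul]
  have h4 : ct q (Wm ω) = Matrix.of fun i j : Fin 3 => ω ^ ((i : ℕ) * (j : ℕ)) := by
    ext i j
    show (ω ^ (2 * (j : ℕ) * (i : ℕ))) ^ q = ω ^ ((i : ℕ) * (j : ℕ))
    rw [← pow_mul, mul_comm _ q, pow_mul, hq, ← pow_mul]
    rw [show 2 * (2 * (j : ℕ) * (i : ℕ)) = 3 * ((i : ℕ) * j) + (i : ℕ) * j by ring, pow_add, pow_mul, hω3, one_pow,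
      one_mul]
  have h5 : ct q (Wm ω) * Wm ω = (3 : F) • 1 := by
    rw [h4]
    ext i j
    rw [Matrix.mul_apply, Fin.sum_univ_three]
    simp only [Matrix.of_apply, Wm, Matrix.smul_apply, smul_eq_mul]
    have e4 : ω ^ 4 = ω := by linear_combination ω * hω3
    rcases fin3 i with rfl | rfl | rfl <;> rcases fin3 j with rfl | rfl | rfl <;> simp
    · norm_num
    · linear_combination hω + ω * hω3
    · linear_combination hω + (ω ^ 5 + ω ^ 2 + ω) * hω3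
    · linear_combination hω
    · linear_combination (ω ^ 3 + 2) * hω3
    · linear_combination hω + (ω ^ 2 + ω ^ 7 + ω ^ 4 + ω) * hω3
    · linear_combination hω + ω * hω3
    · linear_combination hω + (ω + ω ^ 5 + ω ^ 2) * hω3
    · linear_combination (ω ^ 3 + 1 + ω ^ 9 + ω ^ 6 + ω ^ 3 + 1) * hω3
  rw [h5, smul_smul]
  have h6 : -(-(ω - ω ^ 2))⁻¹ * -(ω - ω ^ 2)⁻¹ * 3 = (1 : F) := by
    have h7 : (3 : F) = -((ω - ω ^ 2) * (ω - ω ^ 2)) := by rw [theta_sq hω]; ring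
    rw [h7]
    generalize ω - ω ^ 2 = t at hθ
    field_simp
  rw [h6, one_smul]

theorem un_Wn (hω : ω ^ 2 + ω + 1 = 0) (h3 : (3 : F) ≠ 0) (hq : ω ^ q = ω ^ 2) : ct q (Wn ω) * Wn ω = 1 := by
  have h1 : ct q (Wn ω) = (Matrix.fromBlocks (ct q (-(ω - ω ^ 2)⁻¹ • Wm ω)) 0 0 1).submatrix
      (finSumFinEquiv (m := 3) (n := 3)).symm (finSumFinEquiv (m := 3) (n := 3)).symm := by
    ext r s
    obtain ⟨r, rfl⟩ := (finSumFinEquiv (m := 3) (n := 3)).surjective r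
    obtain ⟨s, rfl⟩ := (finSumFinEquiv (m := 3) (n := 3)).surjective s
    show (Wn ω _ _) ^ q = _
    rw [Wn, Matrix.submatrix_apply, Matrix.submatrix_apply, Equiv.symm_apply_apply, Equiv.symm_apply_apply]
    rcases r with r | r <;> rcases s with s | s
    · rfl
    · simp [zero_pow_q hF]
    · simp [zero_pow_q hF]
    · simp only [Matrix.fromBlocks_apply₂₂, Matrix.one_apply]
      by_cases h : r = s
      · rw [if_pos h, if_pos h.symm, one_pow]
      · rw [if_neg h, if_neg (Ne.symm h), zero_pow_q hF]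
  rw [h1, Wn, Matrix.submatrix_mul_equiv, Matrix.fromBlocks_multiply, un_W hF hω h3 hq]
  simp

end Cfsg.Agent.H890.A7
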